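import Groth.Agent.CycA.PFFib
import Groth.Agent.CycB.FlatDiv
import Groth.Agent.Ega41.DimFlat
import Groth.Agent.CycB.FiberStalk

/-!
# Flat morphisms of integral schemes have a relative dimension
-/

set_option autoImplicit false
universe u
open CategoryTheory CategoryTheory.Limits AlgebraicGeometry

namespace K304.FlatRel

open Groth.Agent Groth.Agent.CycB.RelDim Groth.Agent.CycB.LocQuot Groth.Agent.CycA.PFFib

variable {X Y : Scheme.{u}}

/-- The fibre ring of a point generic in its fibre has dimension zero. -/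
theorem ringKrullDim_fib (f : X ⟶ Y) {x : X} (hx : FibGeneric f x) :
    ringKrullDim (X.presheaf.stalk x ⧸ Ideal.map (f.stalkMap x).hom
      (IsLocalRing.maximalIdeal (Y.presheaf.stalk (f x)))) = 0 := by
  set I := Ideal.map (f.stalkMap x).hom
    (IsLocalRing.maximalIdeal (Y.presheaf.stalk (f x))) with hI
  have h0 : I ≠ ⊤ := Groth.Agent.CycB.FiberStalk.fibIdeal_ne_top f x
  have : Nontrivial (X.presheaf.stalk x ⧸ I) := Ideal.Quotient.nontrivial_iff.2 h0
  have h1 : Ring.KrullDimLE 0 (X.presheaf.stalk x ⧸ I) := by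
    refine Ring.KrullDimLE.mk₀ fun J hJ => ?_
    have h2 := CycB.FlatDiv.eq_maximalIdeal_of_fibGen f hx (J.comap (Ideal.Quotient.mk I))
      (Ideal.IsPrime.comap _) (by
        intro z hz
        rw [Ideal.mem_comap, Ideal.Quotient.eq_zero_iff_mem.2 hz]
        exact J.zero_mem)
    rw [← Ideal.map_comap_of_surjective _ Ideal.Quotient.mk_surjective J]
    refine (Ideal.map_eq_top_or_isMaximal_of_surjective (Ideal.Quotient.mk I)
      Ideal.Quotient.mk_surjective (h2 ▸ IsLocalRing.maximalIdeal.isMaximal _ :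
        (J.comap (Ideal.Quotient.mk I)).IsMaximal)).resolve_left ?_
    rw [Ideal.map_comap_of_surjective _ Ideal.Quotient.mk_surjective J]
    exact hJ.ne_top
  exact le_antisymm (by simpa using (Ring.krullDimLE_iff).1 h1) ringKrullDim_nonneg_of_nontrivial

/-- Dimension of the local ring at a point generic in its fibre. -/
theorem delta_eq_of_flat [IsIntegral X] [IsIntegral Y] (f : X ⟶ Y) [Flat f]
    {δX : X → ℤ} {δY : Y → ℤ} (hX : Cyc.IsSetup X δX) (hY : Cyc.IsSetup Y δY) {x : X}
    (hx : FibGeneric f x) :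
    δX (genericPoint X) - δX x = δY (genericPoint Y) - δY (f x) := by
  have := hX.1
  have := hY.1
  obtain ⟨a, ha, ha'⟩ := exists_dim hX.2.2 x
  obtain ⟨b, hb, hb'⟩ := exists_dim hY.2.2 (f x)
  let := (f.stalkMap x).hom.toAlgebra
  have h1 : Module.Flat (Y.presheaf.stalk (f x)) (X.presheaf.stalk x) :=
    Flat.stalkMap f x
  have h2 : IsLocalHom (algebraMap (Y.presheaf.stalk (f x)) (X.presheaf.stalk x)) :=
    inferInstanceAs (IsLocalHom (f.stalkMap x).hom)
  have h3 := Ega41.DimFlat.ringKrullDim_eq_add_of_flat (A := Y.presheaf.stalk (f x))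
    (B := X.presheaf.stalk x)
  have h4 := ringKrullDim_fib f hx
  have h5 : ringKrullDim (X.presheaf.stalk x ⧸ (IsLocalRing.maximalIdeal
      (Y.presheaf.stalk (f x))).map (algebraMap _ (X.presheaf.stalk x))) = 0 := h4
  rw [ha, hb, h5, add_zero] at h3
  have h6 : a = b := by exact_mod_cast h3
  omega

/-- The dimension inequality for a flat morphism. -/
theorem delta_le_of_flat [IsIntegral X] [IsIntegral Y] (f : X ⟶ Y) [Flat f]
    [LocallyOfFiniteType f] {δX : X → ℤ} {δY : Y → ℤ} (hX : Cyc.IsSetup X δX) (hY : Cyc.IsSetup Y δY)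
    (x : X) :
    δX x ≤ δY (f x) + (δX (genericPoint X) - δY (genericPoint Y)) := by
  obtain ⟨x', h1, h2, h3⟩ := exists_fibGeneric_specializes f x
  have h4 := delta_eq_of_flat f hX hY h3
  have h5 := le_of_specializes hX.2.2 h1
  rw [h2] at h4
  omega

/-- A flat morphism of integral schemes has a relative dimension. -/
theorem hasRelDim_of_flat [IsIntegral X] [IsIntegral Y] (f : X ⟶ Y) [Flat f]
    [LocallyOfFiniteType f] {δX : X → ℤ} {δY : Y → ℤ} (hX : Cyc.IsSetup X δX)
    (hY : Cyc.IsSetup Y δY) (hδ : Cyc.DeltaCompat f δX δY) {e : ℕ}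
    (he : δX (genericPoint X) = δY (genericPoint Y) + e) : Cyc.HasRelDim f e := by
  rw [hasRelDim_iff]
  intro x hx
  have h1 := delta_eq_of_flat f hX hY hx
  obtain ⟨n, hn, hδn⟩ := (deltaCompat_iff.mp hδ) x
  rw [hn]
  have : n = e := by omega
  rw [this]

/-- A flat morphism maps the generic point to the generic point. -/
theorem map_genericPoint [IsIntegral X] [IsIntegral Y] (f : X ⟶ Y) [Flat f] :
    f (genericPoint X) = genericPoint Y := by
  obtain ⟨x, h1, h2⟩ := exists_specializes_of_flat f (genericPoint_specializes (f (genericPoint X)))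
  have h3 : x = genericPoint X := (h1.antisymm (genericPoint_specializes x)).eq
  rw [← h3, h2]

/-- The relative dimension is nonnegative. -/
theorem exists_relDim [IsIntegral X] [IsIntegral Y] (f : X ⟶ Y) [Flat f]
    {δX : X → ℤ} {δY : Y → ℤ} (hδ : Cyc.DeltaCompat f δX δY) :
    ∃ e : ℕ, δX (genericPoint X) = δY (genericPoint Y) + e := by
  obtain ⟨n, -, hn⟩ := hδ (genericPoint X)
  rw [map_genericPoint f] at hn
  exact ⟨n, hn⟩

end K304.FlatRel
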