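import Groth.Agent.CycA.PFFib
import Groth.Agent.CycB.PFFinal
import Groth.Agent.CycA.MovRatZ

/-!
# Intersection with a flat pullback, in terms of the fibre ideals
-/

set_option autoImplicit false
universe u
open CategoryTheory CategoryTheory.Limits AlgebraicGeometry

namespace K304.PullProd

open Groth.Agent Groth.Agent.CycB.RelDim Groth.Agent.CycB.LocQuot Groth.Agent.CycA.PFFib
  Groth.Agent.CycB.PFAssemble Groth.Agent.CycA.MovRatZ Groth.Agent.CycB

variable {X Y : Scheme.{u}}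

/-- The flat pullback of a function of finite support has finite support. -/
theorem finite_support_pullFun [IsLocallyNoetherian X] [CompactSpace X] [CompactSpace Y]
    {f : X ⟶ Y} [Flat f] [LocallyOfFiniteType f] {δX : X → ℤ} {δY : Y → ℤ}
    (hX : Cyc.IsDimFun X δX) {e : ℕ}
    (hrel : Cyc.HasRelDim f e) (hδ : Cyc.DeltaCompat f δX δY) {β : Y → ℤ}
    (hβ : (Function.support β).Finite) :
    (Function.support (Cyc.pullFun f δX δY e β)).Finite := by
  obtain ⟨b, rfl⟩ := exists_cycle_of_finite_support hβ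
  obtain ⟨β', hβ'⟩ := GenLocFin.exists_pullFun_cycle (p := f) (e : ℤ) hX
    (fun x' hx' => (fibGeneric_iff_delta hrel hδ x').1 hx') b
  rw [← hβ']
  exact finite_support β'

/-- The intersection product with a flat pullback as a finite double sum. -/
theorem interProd_pull_apply (f : X ⟶ Y) (δX : X → ℤ) (δY : Y → ℤ)
    (n e : ℤ) {α : X → ℤ} {β : Y → ℤ}
    (hβ' : (Function.support (Cyc.pullFun f δX δY e β)).Finite) (x : X) (S : Finset X)
    (T : Finset Y) (hS : ∀ ξ, α ξ ≠ 0 → ξ ⤳ x → ξ ∈ S) (hT : ∀ η, β η ≠ 0 → η ⤳ f x → η ∈ T) :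
    IntMult.interProd δX n α (Cyc.pullFun f δX δY e β) x =
      ∑ ξ ∈ S, ∑ η ∈ T, α ξ * β η * G f δX δY n e ξ η x := by
  rw [interProd_eq_sum δX n _ _ x S hβ'.toFinset hS
    (fun η h _ => hβ'.mem_toFinset.2 h)]
  refine Finset.sum_congr rfl fun ξ _ => ?_
  have h1 := SpPush.finsum_fiberwise f
    (fun η' => LL f δX δY e η' * mm δX n ξ η' x) β hβ'.toFinset (by
      intro η' h5 h6
      refine hβ'.mem_toFinset.2 ?_
      rw [Function.mem_support, pullFun_eq]
      exact mul_ne_zero h6 (left_ne_zero_of_mul h5))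
  have h2 : ∑ᶠ ω, (∑ᶠ η' ∈ {η' | f η' = ω}, LL f δX δY e η' * mm δX n ξ η' x) * β ω =
      ∑ η ∈ T, G f δX δY n e ξ η x * β η := by
    refine finsum_eq_sum_of_support_subset _ ?_
    intro ω hω
    exact hT ω (right_ne_zero_of_mul hω) (G_ne_zero (left_ne_zero_of_mul hω)).2.1
  have h3 : ∑ η' ∈ hβ'.toFinset, α ξ * (Cyc.pullFun f δX δY e β) η' * mm δX n ξ η' x =
      α ξ * ∑ η' ∈ hβ'.toFinset, LL f δX δY e η' * mm δX n ξ η' x * β (f η') := by
    rw [Finset.mul_sum]
    refine Finset.sum_congr rfl fun η' _ => ?_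
    rw [pullFun_eq]
    ring
  rw [h3, ← h1, h2, Finset.mul_sum]
  exact Finset.sum_congr rfl fun η _ => by ring

/-- The local contribution is the multiplicity with the fibre ideal. -/
theorem G_eq {K : Type u} [Field K] [IsAlgClosed K] {f : X ⟶ Y} {δX : X → ℤ} {δY : Y → ℤ} {e : ℕ}
    [IsIntegral X] (gX : X ⟶ Spec (CommRingCat.of K)) [Smooth gX] [IsSeparated gX]
    (hX : Cyc.DeltaCompat gX δX (fun _ => 0)) [Flat f] [LocallyOfFiniteType f]
    (hrel : Cyc.HasRelDim f e) (hδ : Cyc.DeltaCompat f δX δY) {z v : X} (hv : v ⤳ z) {w : Y}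
    (hw : w ⤳ f z) (hprop : ∀ z', v ⤳ z' → w ⤳ f z' → z' ⤳ z → z' = z)
    (hdim : δX v + (δY w + e) - δX (genericPoint X) = δX z) :
    G f δX δY (δX (genericPoint X)) e v w z =
      IntMult.chi (X.presheaf.stalk z) (X.presheaf.stalk z ⧸ fibIdeal f z hw)
      (X.presheaf.stalk z ⧸ RingHom.ker (Cyc.specMap z v hv)) := by
  rw [chi_fib gX hX hrel hδ hv hw hprop (by omega)]
  unfold G
  have h7 : ∑ᶠ w' ∈ {w' : X | f w' = w}, LL f δX δY e w' * mm δX (δX (genericPoint X)) v w' z =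
      ∑ᶠ w' ∈ {w' : X | w' ⤳ z ∧ f w' = w ∧ δX w' = δY w + e},
        LL f δX δY e w' * mm δX (δX (genericPoint X)) v w' z := by
    apply finsum_mem_inter_support_eq'
    intro w' hw'
    constructor
    · rintro (h : f w' = w)
      refine ⟨(mm_ne_zero (right_ne_zero_of_mul hw')).2.1, h, ?_⟩
      rw [← h]
      exact LL_ne_zero (left_ne_zero_of_mul hw')
    · exact fun h => h.2.1
  rw [h7]
  refine finsum_mem_congr rfl ?_
  rintro w' ⟨h8, rfl, h9⟩
  rw [PFFinal.LL_eq h9, mm_eq ⟨hv, h8, ?_⟩]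
  omega

end K304.PullProd
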