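import Groth.Agent.IntMult.K304.PushFun
import Groth.Agent.IntMult.K304.PullProd
import Groth.Agent.IntMult.K304.FlatRel
import Groth.Agent.CycA.ExtRat
import Groth.Agent.CycA.SetupField
import Groth.Agent.Dix.ProjProper
import Groth.Agent.S1857
import Groth.Prelude.Def_CohB1

/-!
# Nonsingular projective varieties over an algebraically closed field, bundled
-/

set_option autoImplicit false
universe u
open CategoryTheory CategoryTheory.Limits AlgebraicGeometry

namespace K304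

open Groth.Agent Groth.Agent.CycA.MovRatZ K304.PushFun

/-- A nonsingular projective variety over `K` with its dimension function. -/
structure NPV (K : Type u) [Field K] where
  X : Scheme.{u}
  f : X ⟶ Spec (CommRingCat.of K)
  [smooth : Smooth f]
  [sep : IsSeparated f]
  [qc : QuasiCompact f]
  [int : IsIntegral X]
  δ : X → ℤ
  hδ : Cyc.DeltaCompat f δ (fun _ => 0)
  N : ℕ
  ι : X ⟶ CohB1.ProjSpace N K
  [hι : IsClosedImmersion ι]
  w : ι ≫ CohB1.ProjSpace.toSpec N K = f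

namespace NPV

attribute [instance] NPV.smooth NPV.sep NPV.qc NPV.int NPV.hι

variable {K : Type u} [Field K] (V W U : NPV K)

/-- The dimension. -/
noncomputable def n : ℤ := V.δ (genericPoint V.X)

theorem setup : Cyc.IsSetup V.X V.δ := CycA.SetupField.isSetup_of_field V.f V.hδ

instance : IsLocallyNoetherian V.X := V.setup.1

instance : CompactSpace V.X := QuasiCompact.compactSpace_of_compactSpace V.f

theorem dimFun : Cyc.IsDimFun V.X V.δ := V.setup.2.2

instance isProper : IsProper V.f := by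
  rw [← V.w]
  infer_instance

/-- The `k`-cycles. -/
def Z (k : ℤ) : AddSubgroup (V.X → ℤ) where
  carrier := {φ | (Function.support φ).Finite ∧ ∀ x, φ x ≠ 0 → V.δ x = k}
  zero_mem' := ⟨by simp, fun x hx => absurd rfl hx⟩
  add_mem' := fun {a b} ha hb => ⟨(ha.1.union hb.1).subset (Function.support_add _ _), fun x hx => by
    by_contra hne
    apply hx
    rw [Pi.add_apply, by_contra fun h => hne (ha.2 x h), by_contra fun h => hne (hb.2 x h),
      add_zero]⟩
  neg_mem' := fun {a} ha => ⟨by rw [Function.support_neg]; exact ha.1, fun x hx =>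
    ha.2 x (by simpa using hx)⟩

variable {V}

theorem mem_Z {k : ℤ} {φ : V.X → ℤ} :
    φ ∈ V.Z k ↔ (Function.support φ).Finite ∧ ∀ x, φ x ≠ 0 → V.δ x = k := Iff.rfl

theorem Z.fin {k : ℤ} {φ : V.X → ℤ} (h : φ ∈ V.Z k) : (Function.support φ).Finite := h.1

variable (V)

/-- The `k`-cycles rationally equivalent to zero. -/
def R (k : ℤ) : AddSubgroup (V.X → ℤ) := RatZ V.δ k

theorem R_le_Z (k : ℤ) : V.R k ≤ V.Z k := fun _ h =>
  ⟨ratZ_le_support V.dimFun h, eq_of_ne_zero_of_mem_ratZ h⟩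

/-- Rational equivalence. -/
def Eqv (k : ℤ) (α β : V.X → ℤ) : Prop := α - β ∈ V.R k

variable {V}

theorem Eqv.refl {k : ℤ} (α : V.X → ℤ) : V.Eqv k α α := by
  rw [Eqv, sub_self]; exact zero_mem _

theorem Eqv.of_eq {k : ℤ} {α β : V.X → ℤ} (h : α = β) : V.Eqv k α β := h ▸ Eqv.refl α

theorem Eqv.symm {k : ℤ} {α β : V.X → ℤ} (h : V.Eqv k α β) : V.Eqv k β α := by
  have := neg_mem h
  rwa [neg_sub] at this

theorem Eqv.trans {k : ℤ} {α β γ : V.X → ℤ} (h : V.Eqv k α β) (h' : V.Eqv k β γ) :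
    V.Eqv k α γ := by
  have := add_mem h h'
  rwa [sub_add_sub_cancel] at this

theorem Eqv.mem_Z {k : ℤ} {α β : V.X → ℤ} (h : V.Eqv k α β) (hβ : β ∈ V.Z k) : α ∈ V.Z k := by
  have := add_mem (V.R_le_Z k h) hβ
  rwa [sub_add_cancel] at this

theorem Eqv.cast {k k' : ℤ} {α β : V.X → ℤ} (h : V.Eqv k α β) (e : k = k') : V.Eqv k' α β := e ▸ h

theorem mem_Z_cast {k k' : ℤ} {α : V.X → ℤ} (h : α ∈ V.Z k) (e : k = k') : α ∈ V.Z k' := e ▸ h

variable {W U}

section Mor

variable (φ : V.X ⟶ W.X) (hφ : φ ≫ W.f = V.f)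

include hφ in
theorem deltaCompat : Cyc.DeltaCompat φ V.δ W.δ :=
  CycA.ExtRat.deltaCompat_of_comp φ W.f (by rw [hφ]; exact V.hδ) W.hδ

include hφ in
theorem isProper_of : IsProper φ := by
  have : IsProper (φ ≫ W.f) := by rw [hφ]; infer_instance
  exact IsProper.of_comp φ W.f

/-- Pushforward. -/
noncomputable def push (α : V.X → ℤ) : W.X → ℤ := pushFun φ V.δ W.δ α

/-- Flat pullback. -/
noncomputable def pull (β : W.X → ℤ) : V.X → ℤ := Cyc.pullFun φ V.δ W.δ (V.n - W.n) β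

theorem push_mem_Z {k : ℤ} {α : V.X → ℤ} (h : α ∈ V.Z k) : push φ α ∈ W.Z k := by
  refine ⟨finite_support_pushFun h.1, fun y hy => ?_⟩
  obtain ⟨x, rfl, h1, h2⟩ := pushFun_ne_zero hy
  rw [← h2]
  exact h.2 x h1

include hφ in
theorem push_mem_R {k : ℤ} {α : V.X → ℤ} (h : α ∈ V.R k) : push φ α ∈ W.R k := by
  have := isProper_of φ hφ
  exact pushFun_mem_ratZ V.setup W.setup φ (deltaCompat φ hφ) h

include hφ in
theorem Eqv.push {k : ℤ} {α β : V.X → ℤ} (h : V.Eqv k α β) (hβ : β ∈ V.Z k) :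
    W.Eqv k (NPV.push φ α) (NPV.push φ β) := by
  have h1 := push_mem_R φ hφ h
  have h2 := h.mem_Z hβ
  unfold NPV.push at h1
  rw [pushFun_sub φ _ _ h2.1 hβ.1] at h1
  exact h1

theorem push_id {k : ℤ} {α : V.X → ℤ} (_ : α ∈ V.Z k) : push (𝟙 V.X) α = α := pushFun_id _ _

include hφ in
theorem push_push (ψ : W.X ⟶ U.X) (hψ : ψ ≫ U.f = W.f) {k : ℤ} {α : V.X → ℤ} (h : α ∈ V.Z k) :
    push ψ (push φ α) = push (φ ≫ ψ) α := by
  have := isProper_of φ hφ
  have := isProper_of ψ hψ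
  exact pushFun_pushFun φ ψ (deltaCompat φ hφ) (deltaCompat ψ hψ) h.1

include hφ in
theorem exists_relDim [Flat φ] : ∃ e : ℕ, (e : ℤ) = V.n - W.n ∧ Cyc.HasRelDim φ e := by
  have := isProper_of φ hφ
  obtain ⟨e, he⟩ := FlatRel.exists_relDim φ (deltaCompat φ hφ)
  refine ⟨e, ?_, FlatRel.hasRelDim_of_flat φ V.setup W.setup (deltaCompat φ hφ) he⟩
  unfold n
  omega

include hφ in
theorem pull_mem_Z [Flat φ] {k : ℤ} {β : W.X → ℤ} (h : β ∈ W.Z k) :
    pull φ β ∈ V.Z (k + (V.n - W.n)) := by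
  have := isProper_of φ hφ
  obtain ⟨e, he, hrel⟩ := exists_relDim φ hφ
  refine ⟨?_, fun x hx => ?_⟩
  · unfold pull
    rw [← he]
    exact PullProd.finite_support_pullFun V.dimFun hrel (deltaCompat φ hφ) h.1
  · rw [pull, CycB.PFAssemble.pullFun_eq] at hx
    rw [CycB.PFAssemble.LL_ne_zero (right_ne_zero_of_mul hx), h.2 _ (left_ne_zero_of_mul hx)]

theorem pull_sub (α β : W.X → ℤ) : pull φ (α - β) = pull φ α - pull φ β := by
  funext x
  rw [Pi.sub_apply, pull, pull, pull, CycB.PFAssemble.pullFun_eq, CycB.PFAssemble.pullFun_eq,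
    CycB.PFAssemble.pullFun_eq, Pi.sub_apply, sub_mul]

include hφ in
theorem pull_mem_R [Flat φ] {k : ℤ} {β : W.X → ℤ} (h : β ∈ W.R k) :
    pull φ β ∈ V.R (k + (V.n - W.n)) := by
  have := isProper_of φ hφ
  obtain ⟨e, he, hrel⟩ := exists_relDim φ hφ
  obtain ⟨b, rfl, hb⟩ := exists_cycle_of_mem_ratZ W.dimFun h
  obtain ⟨b', hb'⟩ := exists_cycle_of_finite_support (pull_mem_Z φ hφ (W.R_le_Z k h)).1
  have h1 := S1856.result V.X W.X V.δ W.δ V.setup W.setup φ e hrel (deltaCompat φ hφ) k b 0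
    (fun x hx => by_contra fun h1 => hx (eq_of_ne_zero_of_mem_ratZ h x h1)) (fun _ _ => rfl)
    (by unfold Cyc.RatEquiv; rwa [sub_zero]) b' 0 (by rw [he]; exact hb')
    (by
      funext x
      rw [CycB.PFAssemble.pullFun_eq]
      exact (zero_mul _).symm)
  unfold Cyc.RatEquiv at h1
  rw [sub_zero, he] at h1
  have h2 := mem_ratZ_of_ratEquivZero h1
  rw [hb'] at h2
  exact h2

include hφ in
theorem Eqv.pull [Flat φ] {k : ℤ} {α β : W.X → ℤ} (h : W.Eqv k α β) :
    V.Eqv (k + (V.n - W.n)) (NPV.pull φ α) (NPV.pull φ β) := by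
  have h1 := pull_mem_R φ hφ h
  rwa [pull_sub] at h1

include hφ in
theorem pull_pull [Flat φ] (ψ : W.X ⟶ U.X) (hψ : ψ ≫ U.f = W.f) [Flat ψ] {k : ℤ} {α : U.X → ℤ}
    (h : α ∈ U.Z k) : pull φ (pull ψ α) = pull (φ ≫ ψ) α := by
  have := isProper_of φ hφ
  have := isProper_of ψ hψ
  obtain ⟨e, he, hrel⟩ := exists_relDim φ hφ
  obtain ⟨e', he', hrel'⟩ := exists_relDim ψ hψ
  obtain ⟨a, rfl⟩ := exists_cycle_of_finite_support h.1
  have h1 := (S1857.result V.X W.X U.X V.δ W.δ U.δ V.setup W.setup U.setup φ ψ e e' hrel hrel'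
    (deltaCompat φ hφ) (deltaCompat ψ hψ) k).2 a
    (fun x hx => by_contra fun h1 => hx (h.2 x h1))
  unfold pull
  rw [he, he'] at h1
  rw [h1]
  congr 1
  ring

end Mor

end NPV

end K304
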