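import Groth.Agent.IntMult.K304.NPVGraph
import Groth.Prelude.Def_ChowOps2

/-!
# The Chow product and `ChowOps.IsChowMul`
-/

set_option autoImplicit false
universe u
open CategoryTheory CategoryTheory.Limits AlgebraicGeometry TopologicalSpace

namespace K304.NPV

open Groth.Agent Groth.Agent.CycA.MovRatZ K304.PushFun

variable {K : Type u} [Field K]

theorem cycle_mem_Z {V : NPV K} {k : ℤ} {α : AlgebraicCycle V.X ℤ}
    (hα : α ∈ Cyc.Zk V.X V.δ k) : ⇑α ∈ V.Z k :=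
  ⟨finite_support α, fun x hx => by_contra fun h => hx (hα x h)⟩

theorem ratEquiv_iff {V : NPV K} {k : ℤ} {α β : AlgebraicCycle V.X ℤ} :
    Cyc.RatEquiv V.δ k α β ↔ V.Eqv k ⇑α ⇑β := by
  unfold Cyc.RatEquiv Eqv
  rw [ratEquivZero_iff_mem_ratZ V.dimFun]
  rfl

theorem cl_eq_iff {V : NPV K} {k : ℤ} {α β : AlgebraicCycle V.X ℤ}
    (hα : α ∈ Cyc.Zk V.X V.δ k) (hβ : β ∈ Cyc.Zk V.X V.δ k) :
    ChowOps.cl α hα = ChowOps.cl β hβ ↔ V.Eqv k ⇑α ⇑β := by
  have h1 : ChowOps.cl α hα = ChowOps.cl β hβ ↔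
      (-(⟨α, hα⟩ : ↥(ChowOps.zk V.X V.δ k)) + ⟨β, hβ⟩) ∈ ChowOps.ratTriv V.X V.δ k := by
    exact QuotientAddGroup.eq
  rw [h1]
  constructor
  · intro h
    have key : ∀ c : ↥(ChowOps.zk V.X V.δ k), c ∈ ChowOps.ratTriv V.X V.δ k →
        ⇑(c : AlgebraicCycle V.X ℤ) ∈ V.R k := by
      intro c hc
      unfold ChowOps.ratTriv at hc
      induction hc using AddSubgroup.closure_induction with
      | mem c hc => exact mem_ratZ_of_ratEquivZero hc
      | zero => exact zero_mem _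
      | add a b _ _ ha hb => exact add_mem ha hb
      | neg a _ ha => exact neg_mem ha
    have h2 := key _ h
    have h3 : V.Eqv k ⇑β ⇑α := by
      unfold Eqv
      convert h2 using 1
      funext x
      change β x - α x = -(α x) + β x
      ring
    exact h3.symm
  · intro h
    refine AddSubgroup.subset_closure ?_
    change Cyc.RatEquivZero V.δ k (-α + β)
    rw [ratEquivZero_iff_mem_ratZ V.dimFun]
    have h3 : V.Eqv k ⇑β ⇑α := h.symm
    unfold Eqv at h3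
    have h4 : ⇑(-α + β : AlgebraicCycle V.X ℤ) = ⇑β - ⇑α := by
      funext x
      change -(α x) + β x = β x - α x
      ring
    rw [h4]
    exact h3

variable [IsAlgClosed K]

/-- An intersection product in the sense of `ChowOps.IsChowMul` is represented by `mul`. -/
theorem eqv_mul_of_isChowMul {V : NPV K} {n : ℤ} (hn : V.n = n)
    {m : (r s : ℤ) → ChowOps.CH V.X V.δ r → ChowOps.CH V.X V.δ s →
      ChowOps.CH V.X V.δ (r + s - n)} (hm : ChowOps.IsChowMul V.X V.δ n m) {r s : ℤ}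
    {α β ζ : AlgebraicCycle V.X ℤ} (hα : α ∈ Cyc.Zk V.X V.δ r) (hβ : β ∈ Cyc.Zk V.X V.δ s)
    (hζ : ζ ∈ Cyc.Zk V.X V.δ (r + s - n))
    (h : ChowOps.cl ζ hζ = m r s (ChowOps.cl α hα) (ChowOps.cl β hβ)) :
    V.Eqv (r + s - n) ⇑ζ (V.mul r ⇑α ⇑β) := by
  subst hn
  have hα' := cycle_mem_Z hα
  have hβ' := cycle_mem_Z hβ
  obtain ⟨a, ha, ha'⟩ := exists_meet hα' hβ'
  have haZ := ha.mem_Z hα'
  have hipZ := ip_mem_Z haZ hβ' ha'
  obtain ⟨a, rfl⟩ := exists_cycle_of_finite_support haZ.1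
  obtain ⟨c, hc⟩ := exists_cycle_of_finite_support hipZ.1
  have haZ' : a ∈ Cyc.Zk V.X V.δ r := fun x hx => by_contra fun h => hx (haZ.2 x h)
  have hcZ' : c ∈ Cyc.Zk V.X V.δ (r + s - V.n) := fun x hx => by_contra fun h => hx (by
    rw [hc] at h
    exact hipZ.2 x h)
  have h1 := hm r s a β haZ' hβ ha' c hcZ' hc
  rw [(cl_eq_iff haZ' hα).2 ha, ← h, cl_eq_iff] at h1
  rw [hc] at h1
  exact h1.trans (mul_spec hα' hβ' ha (Eqv.refl _) ha').symm

end K304.NPV
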