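import Groth.Agent.CycB.RelDim2
import Mathlib.Topology.Sober
import Mathlib.Topology.KrullDimension

/-!
# Dimension of closures of points of schemes locally of finite type over a field
-/

set_option autoImplicit false
universe u

namespace K304.DimBasic

open CategoryTheory CategoryTheory.Limits AlgebraicGeometry Groth.Agent.CycB.RelDim

theorem isField_top (k : Type u) [Field k] : IsField Γ(Spec (CommRingCat.of k), ⊤) :=
  MulEquiv.isField (Field.toIsField k)
    (Scheme.ΓSpecIso (CommRingCat.of k)).commRingCatIsoToRingEquiv.toMulEquiv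

/-- `dim closure {x} = δ x`. -/
theorem dim_closure {k : Type u} [Field k] {X : Scheme.{u}} (p : X ⟶ Spec (CommRingCat.of k))
    [LocallyOfFiniteType p] {δ : X → ℤ} (hδ : Cyc.DeltaCompat p δ (fun _ => 0)) (x : X) :
    ∃ n : ℕ, δ x = n ∧ topologicalKrullDim (closure {x} : Set X) = n := by
  obtain ⟨n, hn, hn'⟩ := exists_dim_closure p (isAffineOpen_top _) (isField_top k) x
  obtain ⟨m, hm, hm'⟩ := (deltaCompat_iff.1 hδ) x
  rw [hm] at hn
  have : m = n := by exact_mod_cast hn
  subst this
  exact ⟨m, by rw [hm', zero_add], hn'⟩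

theorem eq_of_dim_closure {k : Type u} [Field k] {X : Scheme.{u}} (p : X ⟶ Spec (CommRingCat.of k))
    [LocallyOfFiniteType p] {δ : X → ℤ} (hδ : Cyc.DeltaCompat p δ (fun _ => 0)) {x : X} {n : ℕ}
    (h : topologicalKrullDim (closure {x} : Set X) = n) : δ x = n := by
  obtain ⟨m, hm, hm'⟩ := dim_closure p hδ x
  rw [h] at hm'
  rw [hm]
  exact_mod_cast hm'.symm

theorem topologicalKrullDim_univ (X : Type*) [TopologicalSpace X] :
    topologicalKrullDim (Set.univ : Set X) = topologicalKrullDim X :=
  IsHomeomorph.topologicalKrullDim_eq _ (Homeomorph.Set.univ X).isHomeomorph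

theorem topologicalKrullDim_image_val {X : Type*} [TopologicalSpace X] {S : Set X} (Z : Set S) :
    topologicalKrullDim ↥(Subtype.val '' Z) = topologicalKrullDim ↥Z := by
  symm
  let e : Z ≃ₜ ↥(Subtype.val '' Z) := 
    (Topology.IsEmbedding.subtypeVal.homeomorphImage Z)
  exact IsHomeomorph.topologicalKrullDim_eq _ e.isHomeomorph

end K304.DimBasic
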