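import Groth.Agent.IntMult.K304.FamCount
import Groth.Agent.CycA.MovP1
import Groth.Agent.CycA.MovT4
import Groth.Agent.CycA.MovExc

/-!
# Incidence dimension count for the family `T₀ ℓ + T₁ ℓ'` on `P^1_X`
-/

set_option autoImplicit false
universe u
open Filter CategoryTheory CategoryTheory.Limits AlgebraicGeometry HomogeneousLocalization

namespace K304.FamCount

open Groth.Agent

open P1 Groth.Agent.CycB.P1Chart Groth.Agent.CycB.RelDim
open Groth.Agent.VarietyB.ProjHom Groth.Agent.VarietyB.ProjGlue Groth.Agent.VarietyB.ProjStd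
open Groth.Agent.CycA.MovVec Groth.Agent.CycA.MovCoord Groth.Agent.CycA.MovForms
open Groth.Agent.CycA.MovProj Groth.Agent.CycA.MovSeg Groth.Agent.CycA.MovP1
open Groth.Agent.CycA.MovExc

attribute [local instance] MvPolynomial.gradedAlgebra

/-- In a fibre product over an affine base, the intersection of the preimages of affine opens is
affine. -/
theorem isAffineOpen_fst_inf_snd {X Y S : Scheme.{u}} [IsAffine S] (f : X ⟶ S) (g : Y ⟶ S)
    {U : X.Opens} (hU : IsAffineOpen U) {V : Y.Opens} (hV : IsAffineOpen V) :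
    IsAffineOpen (pullback.fst f g ⁻¹ᵁ U ⊓ pullback.snd f g ⁻¹ᵁ V) := by
  have H := IsPullback.of_hasPullback f g
  have hS : IsAffineOpen (⊤ : S.Opens) := isAffineOpen_top S
  have : IsAffine U := hU
  have : IsAffine V := hV
  have : IsAffine (⊤ : S.Opens) := hS
  exact .of_isIso (Scheme.Hom.isPullback_resLE H (US := ⊤) (UX := U) (UT := V) le_top le_top
    rfl).isoPullback.hom

section

variable {K : Type u} [Field K] {X : Scheme.{u}} (p : X ⟶ Spec (CommRingCat.of K)) {I : Type}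
  [Fintype I] (D : CoordData X I)

/-- The Segre data on `P^1_X`. -/
noncomputable abbrev SD : CoordData (CohB1.ProjSpaceOver 1 X) (Fin 2 × I) :=
  segData (CohB1.ProjSpaceOver.toBase 1 X) (stdP1 X) D

omit [Fintype I] in
theorem isAffineOpen_SD (hD : ∀ a, IsAffineOpen (D.U a)) (e : Fin 2) (a : I) :
    IsAffineOpen ((SD D).U (e, a)) :=
  isAffineOpen_fst_inf_snd _ _ (isAffineOpen_U (Fin 2) R0.{u} e) (hD a)

/-- The coordinate functions in the chart `T₁ ≠ 0`. -/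
noncomputable def yS (a i : I) : Γ(CohB1.ProjSpaceOver 1 X, (SD D).U (1, a)) :=
  (CohB1.ProjSpaceOver 1 X).presheaf.map (homOfLE (inf_le_right :
    (stdP1 X).U 1 ⊓ CohB1.ProjSpaceOver.toBase 1 X ⁻¹ᵁ D.U a ≤
      CohB1.ProjSpaceOver.toBase 1 X ⁻¹ᵁ D.U a)).op
        ((CohB1.ProjSpaceOver.toBase 1 X).app _ (D.f a i))

/-- The constant term of the family in the chart `T₁ ≠ 0`. -/
noncomputable def zS (a : I) (v : I → K) : Γ(CohB1.ProjSpaceOver 1 X, (SD D).U (1, a)) :=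
  (CohB1.ProjSpaceOver 1 X).presheaf.map (homOfLE (inf_le_left :
    (stdP1 X).U 1 ⊓ CohB1.ProjSpaceOver.toBase 1 X ⁻¹ᵁ D.U a ≤ (stdP1 X).U 1)).op
      ((stdP1 X).f 1 0) *
    (CohB1.ProjSpaceOver 1 X).presheaf.map (homOfLE (inf_le_right :
      (stdP1 X).U 1 ⊓ CohB1.ProjSpaceOver.toBase 1 X ⁻¹ᵁ D.U a ≤
        CohB1.ProjSpaceOver.toBase 1 X ⁻¹ᵁ D.U a)).op
          ((CohB1.ProjSpaceOver.toBase 1 X).app _ (form p D a v))

omit [Fintype I] in
theorem yS_self (a : I) : yS D a a = 1 := by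
  unfold yS
  rw [D.f_self]
  simp only [map_one]
  rfl

/-- The form `T₀ v + T₁ v'` in the chart `T₁ ≠ 0`. -/
theorem form_SD_one (a : I) (v v' : I → K) :
    letI := (cst (CohB1.ProjSpaceOver.toBase 1 X ≫ p) ((SD D).U (1, a))).toAlgebra
    form (CohB1.ProjSpaceOver.toBase 1 X ≫ p) (SD D) (1, a) (segForm v v') =
      comb (yS D a) v' + zS p D a v := by
  rw [form_segData, CoordData.f_self]
  simp only [map_one, one_mul]
  rw [add_comm]
  refine congrArg (fun t => t + zS p D a v) ?_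
  rw [← form_pullback]
  unfold comb form
  refine (map_sum ((CohB1.ProjSpaceOver 1 X).presheaf.map (homOfLE (inf_le_right :
    (stdP1 X).U 1 ⊓ CohB1.ProjSpaceOver.toBase 1 X ⁻¹ᵁ D.U a ≤
      CohB1.ProjSpaceOver.toBase 1 X ⁻¹ᵁ D.U a)).op).hom _ _).trans ?_
  refine Finset.sum_congr rfl fun i _ => ?_
  refine (map_mul ((CohB1.ProjSpaceOver 1 X).presheaf.map (homOfLE (inf_le_right :
    (stdP1 X).U 1 ⊓ CohB1.ProjSpaceOver.toBase 1 X ⁻¹ᵁ D.U a ≤
      CohB1.ProjSpaceOver.toBase 1 X ⁻¹ᵁ D.U a)).op).hom _ _).trans ?_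
  exact congrArg (fun z => z * _) (map_cst (CohB1.ProjSpaceOver.toBase 1 X ≫ p) _ _)

variable [IsAlgClosed K] [LocallyOfFiniteType p] {δ : X → ℤ}
  {δP : ↥(CohB1.ProjSpaceOver 1 X) → ℤ} (hδ : Cyc.DeltaCompat p δ (fun _ => 0))
  (hδP : Cyc.DeltaCompat (CohB1.ProjSpaceOver.toBase 1 X ≫ p) δP (fun _ => 0))
  (hD : ∀ a, IsAffineOpen (D.U a)) (m : ℕ)

include hδ hδP hD

/-- Incidence count for the family. -/
theorem eventually_fam [LocallyOfFiniteType (CohB1.ProjSpaceOver.toBase 1 X)] (η : X)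
    (τ : ↥(CohB1.ProjSpaceOver 1 X)) (ℓ₀ ℓ : Fin m → I → K) :
    ∀ᶠ ℓ' in genTuple K (I → K) m, ∀ (F : Type u) [Field F] (x₁ : X)
      (z : ↥(CohB1.ProjSpaceOver 1 X)) (φ₁ : X.residueField x₁ →+* F)
      (φ₂ : (CohB1.ProjSpaceOver 1 X).residueField z →+* F),
      kF p φ₁ = kF (CohB1.ProjSpaceOver.toBase 1 X ≫ p) φ₂ → η ⤳ x₁ → τ ⤳ z →
      ∀ (a b : I) (h₁ : x₁ ∈ D.U a) (h₂ : z ∈ (SD D).U (1, b)) (μ : F),
      (∀ j, val (CohB1.ProjSpaceOver.toBase 1 X ≫ p) (SD D) (1, b) h₂ φ₂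
          (segForm (ℓ j) (ℓ' j)) = μ * val p D a h₁ φ₁ (ℓ₀ j)) →
      δP z + m ≤ δ η + δP τ + 1 := by
  have hall := fun a b : I => E2c p (CohB1.ProjSpaceOver.toBase 1 X ≫ p) δ δP hδ hδP m (hD a)
    (isAffineOpen_SD D hD 1 b) η τ (yS D b)
    (by
      rw [Ideal.eq_top_iff_one]
      exact Ideal.subset_span ⟨b, yS_self D b⟩)
    (fun j => zS p D b (ℓ j)) (fun j => form p D a (ℓ₀ j))
  have h := Filter.eventually_all.2 fun a : I => Filter.eventually_all.2 fun b : I => hall a b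
  filter_upwards [h] with ℓ' hℓ'
  intro F _ x₁ z φ₁ φ₂ hK h1 h2 a b h₁ h₂ μ hval
  refine hℓ' a b F x₁ z φ₁ φ₂ hK h1 h2 h₁ h₂ μ fun j => ?_
  rw [← form_SD_one]
  exact hval j

end

end K304.FamCount
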