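import Groth.Agent.IntMult.K304.P1Geo
import Groth.Agent.IntMult.K304.DimBasic
import Groth.Agent.IntMult.K304.FamCount2
import Groth.Agent.CycB.P1Fibre

/-!
# Small facts for the moving family
-/

set_option autoImplicit false
universe u
open CategoryTheory CategoryTheory.Limits AlgebraicGeometry TopologicalSpace

namespace K304.FamBasic

open Groth.Agent

open P1 Groth.Agent.CycB.P1Chart Groth.Agent.CycB.LocQuot
open Groth.Agent.VarietyB.ProjHom Groth.Agent.VarietyB.ProjGlue Groth.Agent.VarietyB.ProjStd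
open Groth.Agent.CycA.MovP1 Groth.Agent.CycA.MovCoord Groth.Agent.CycA.MovForms

attribute [local instance] MvPolynomial.gradedAlgebra

/-- The dimension of a closed set is bounded by the dimension function. -/
theorem topologicalKrullDim_le_of_delta {X : Scheme.{u}} {δ : X → ℤ} (hδ : Cyc.IsDimFun X δ)
    (h0 : ∀ x, 0 ≤ δ x) {S : Set X} (hS : IsClosed S) {k : ℕ} (h : ∀ x ∈ S, δ x ≤ k) :
    topologicalKrullDim ↥S ≤ k := by
  have hq : QuasiSober ↥S := hS.isClosedEmbedding_subtypeVal.quasiSober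
  let g : IrreducibleCloseds ↥S → X := fun Z => (Z.isIrreducible.genericPoint : ↥S).1
  have hg : ∀ Z, g Z ∈ S := fun Z => (Z.isIrreducible.genericPoint : ↥S).2
  let f : IrreducibleCloseds ↥S → {z : ℤ // z ∈ Set.Icc (0 : ℤ) k} := fun Z =>
    ⟨δ (g Z), h0 _, h _ (hg Z)⟩
  have hf : StrictMono f := by
    intro Z Z' hlt
    have hle : (Z : Set ↥S) ≤ Z' := hlt.le
    have h1 := Z.isIrreducible.isGenericPoint_genericPoint_closure
    have h2 := Z'.isIrreducible.isGenericPoint_genericPoint_closure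
    rw [Z.isClosed.closure_eq] at h1
    rw [Z'.isClosed.closure_eq] at h2
    have h3 : Z'.isIrreducible.genericPoint ⤳ Z.isIrreducible.genericPoint :=
      h2.specializes (hle h1.mem)
    have h4 : g Z' ⤳ g Z := h3.map continuous_subtype_val
    have h5 : g Z' ≠ g Z := by
      intro e
      have e' : Z'.isIrreducible.genericPoint = Z.isIrreducible.genericPoint := Subtype.ext e
      rw [e'] at h2
      have h6 : (Z : Set ↥S) = Z' := h1.symm.trans h2
      exact hlt.ne (IrreducibleCloseds.ext h6)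
    exact (hδ _ _ h4 h5).1
  refine (Order.krullDim_le_of_strictMono f hf).trans ?_
  refine iSup_le fun p => ?_
  have key : ∀ i : ℕ, ∀ hi : i < p.length + 1, (i : ℤ) ≤ (p ⟨i, hi⟩).1 := by
    intro i
    induction i with
    | zero => intro hi; exact (p _).2.1
    | succ i ih =>
      intro hi
      have h1 := ih (by omega)
      have h2 : p ⟨i, by omega⟩ < p ⟨i + 1, hi⟩ := p.strictMono (by simp [Fin.lt_def])
      have h3 : (p ⟨i, by omega⟩).1 < (p ⟨i + 1, hi⟩).1 := h2
      push_cast
      omega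
  have h1 := key p.length (by omega)
  have h2 := (p ⟨p.length, by omega⟩).2.2
  have h3 : p.length ≤ k := by omega
  exact_mod_cast h3

/-- A point of `P^1_X` is in the chart `T₁ ≠ 0` or on the zero section. -/
theorem mem_chart_or {X : Scheme.{u}} (z : ↥(CohB1.ProjSpaceOver 1 X))
    (hz : z ∉ Set.range (P1.sect X 0)) : z ∈ (stdP1 X).U 1 := by
  have hU : ∀ w : ↥(CohB1.ProjSpaceOver 1 X), toZ X w ∈ Set.range (chartι.{u} 1) →
      w ∈ (stdP1 X).U 1 := by
    intro w hw
    have h1 := Proj.opensRange_awayι grading.{u} (T 1) (X_mem 1) one_pos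
    change toZ X w ∈ Proj.basicOpen grading.{u} (T 1)
    rw [← h1]
    exact hw
  let K : CommRingCat.{u} := (CohB1.ProjSpaceOver 1 X).residueField z
  have hK : IsField K := Field.toIsField ((CohB1.ProjSpaceOver 1 X).residueField z)
  let a : Spec K ⟶ CohB1.ProjSpaceOver 1 X := (CohB1.ProjSpaceOver 1 X).fromSpecResidueField z
  have hloc : IsLocalRing K :=
    inferInstanceAs (IsLocalRing ((CohB1.ProjSpaceOver 1 X).residueField z))
  have haz : ∀ y, a y = z := fun y => (CohB1.ProjSpaceOver 1 X).fromSpecResidueField_apply z y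
  obtain ⟨i, hi⟩ := CycB.P1Fibre.exists_chart (toZ X (a (IsLocalRing.closedPoint K)))
  have hi' : i = 0 ∨ i = 1 := by fin_cases i <;> simp
  rcases hi' with rfl | rfl
  · obtain ⟨b, hb⟩ := CycB.GraphFac.exists_pt 0 a hi
    have hb0 : b ≠ 0 := by
      rintro rfl
      rw [pt_zero] at hb
      apply hz
      rw [← haz (IsLocalRing.closedPoint K), hb, Scheme.Hom.comp_apply]
      exact ⟨_, rfl⟩
    obtain ⟨c, hc⟩ := hK.mul_inv_cancel hb0
    rw [pt_inv 0 _ hc] at hb
    have h3 := CycB.GraphFac.pt_mem_chart (0 + 1) (a ≫ CohB1.ProjSpaceOver.toBase 1 X) c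
      (IsLocalRing.closedPoint K)
    rw [← hb, haz] at h3
    exact hU z h3
  · rw [haz] at hi
    exact hU z hi

/-- The generic point of the projective line over the closure of a point. -/
theorem exists_cyl {X : Scheme.{u}} {δ : X → ℤ} {δP : ↥(CohB1.ProjSpaceOver 1 X) → ℤ}
    (hP : Cyc.DeltaCompat (CohB1.ProjSpaceOver.toBase 1 X) δP δ) (x : X) :
    ∃ τ : ↥(CohB1.ProjSpaceOver 1 X), δP τ = δ x + 1 ∧
      ∀ z, x ⤳ CohB1.ProjSpaceOver.toBase 1 X z → τ ⤳ z := by
  obtain ⟨τ, h1, h2⟩ := K304.P1Geo.exists_generic x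
  refine ⟨τ, ?_, ?_⟩
  · have h3 : CycB.RelDim.FibGeneric (CohB1.ProjSpaceOver.toBase 1 X) τ := fun x' h4 h5 =>
      (h5.antisymm (h2 x' (h4.trans h1))).eq
    rw [(K304.P1Geo.fibGeneric_iff hP τ).1 h3, h1]
  · intro z hz
    obtain ⟨z', h4, h5⟩ := CycB.RelDim.exists_specializes_of_flat
      (CohB1.ProjSpaceOver.toBase 1 X) hz
    exact (h2 z' h5).trans h4

section val

variable {K : Type u} [Field K]

/-- The value of a form at a point of an open subscheme. -/
theorem val_pullback {X Y : Scheme.{u}} (g : Y ⟶ X) (p : X ⟶ Spec (CommRingCat.of K)) {I : Type}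
    [Fintype I] (D : CoordData X I) (a : I) {y : Y} (hy : y ∈ (pullbackData g D).U a)
    (hx : g y ∈ D.U a) {F : Type u} [Field F] (φ : Y.residueField y →+* F) (v : I → K) :
    val (g ≫ p) (pullbackData g D) a hy φ v =
      val p D a hx (φ.comp (g.residueFieldMap y).hom) v := by
  unfold val
  rw [CycA.MovSeg.form_pullback]
  have h := CycB.RelDim.evaluation_comp_residueFieldMap g (D.U a) (g ⁻¹ᵁ D.U a) le_rfl y hy hx
  rw [Scheme.Hom.appLE_eq_app] at h
  have h2 := congr(($h).hom (form p D a v))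
  exact congrArg φ h2.symm

end val

end K304.FamBasic
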