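import Groth.Agent.CycA.MovDouble2

/-!
# Incidence dimension count with additional constants

`eventually_pair_const`, `E2c`: variants of `CycA.MovDouble.eventually_pair` and `E2` for two schemes,
one chart on each, and additional constants. They are used for the families of linear maps
`T₀ + T₁ B` on projective space.
-/

set_option autoImplicit false
universe u
open Filter TensorProduct Groth.Agent.CycA.MovForms Groth.Agent.CycA.MovCoord
open CategoryTheory AlgebraicGeometry Groth.Agent.VarietyB.ProjGlue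

namespace K304.FamCount

open Groth.Agent

open Algebra Groth.Agent.CycB.TrdegAlg Groth.Agent.CycB.RelDim Groth.Agent.CycA.MovDouble

section alg

variable {K : Type u} [Field K] [IsAlgClosed K] {R S : Type u} [CommRing R] [IsDomain R]
  [Algebra K R] [Algebra.FiniteType K R] [CommRing S] [IsDomain S] [Algebra K S]
  [Algebra.FiniteType K S] (r s : ℕ) (hr : Algebra.trdeg K R = r) (hs : Algebra.trdeg K S = s)

include hr hs

/-- Generic linear forms `ℓ`: incidence of a given tuple `a` with `ℓ(y) + z`. -/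
theorem eventually_pair_const {I : Type*} [Fintype I] (y : I → S)
    (hy : Ideal.span (Set.range y) = ⊤) (m : ℕ) (z : Fin m → S) (a : Fin m → R) :
    ∀ᶠ ℓ in genTuple K (I → K) m, ∀ (F : Type u) [Field F] [Algebra K F] (φ : R →ₐ[K] F)
      (ψ : S →ₐ[K] F) (μ : F), (∀ j, ψ (comb y (ℓ j) + z j) = μ * φ (a j)) →
      ∃ t : ℕ, Algebra.trdeg K ↥(φ.range ⊔ ψ.range) = t ∧ t + m ≤ r + s + 1 := by
  have hdom : IsDomain (R ⊗[K] S) := VarietyB.AlgClosedTensor.isDomain_tensorProduct K R S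
  have hft : Algebra.FiniteType K (R ⊗[K] S) :=
    Algebra.FiniteType.trans (S := R) inferInstance inferInstance
  have hnoeth : IsNoetherianRing (R ⊗[K] S) := Algebra.FiniteType.isNoetherianRing K _
  let P := Polynomial (R ⊗[K] S)
  let w : I → P := fun i => Polynomial.C ((1 : R) ⊗ₜ[K] y i)
  let σ : S →+* P := Polynomial.C.comp (Algebra.TensorProduct.includeRight : S →ₐ[K] R ⊗[K] S).toRingHom
  have hw : Ideal.span (Set.range w) = ⊤ := by
    have h1 : Ideal.map σ (Ideal.span (Set.range y)) = ⊤ := by rw [hy, Ideal.map_top]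
    rw [Ideal.map_span, ← Set.range_comp] at h1
    exact h1
  let c : ℕ → P := fun j => if h : j < m then Polynomial.C ((1 : R) ⊗ₜ[K] z ⟨j, h⟩) -
    (Polynomial.X * Polynomial.C (a ⟨j, h⟩ ⊗ₜ[K] (1 : S))) else 0
  filter_upwards [eventually_height w hw m c] with ℓ hℓ
  intro F _ _ φ ψ μ hcomb
  have hone : IsLocalization.Away (1 : P) P := IsLocalization.away_of_isUnit_of_bijective P isUnit_one
    Function.bijective_id
  refine exists_trdeg_le_of_height r s hr hs (1 : P) one_ne_zero P F (evalHom R S φ ψ μ) m ?_ φ ?_ ψ ?_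
  · refine hℓ _ (RingHom.ker_isPrime _) fun j => ?_
    change evalHom R S φ ψ μ (comb w (ℓ j) + c j) = 0
    have hcj : c j = Polynomial.C ((1 : R) ⊗ₜ[K] z j) -
        (Polynomial.X * Polynomial.C (a j ⊗ₜ[K] (1 : S))) := by
      simp only [c, Fin.is_lt, dite_true, Fin.eta]
    have h1 : (fun i => evalHom R S φ ψ μ (w i)) = fun i => ψ (y i) := by
      funext i
      rw [evalHom_right]
    have h2 := hcomb j
    rw [map_add] at h2
    rw [map_add, comb_map, h1, ← comb_map, hcj, map_sub, map_mul, evalHom_X, evalHom_left,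
      evalHom_right, ← add_sub_assoc, h2, sub_self]
  · intro b
    exact (evalHom_left φ ψ μ b).symm
  · intro b
    exact (evalHom_right φ ψ μ b).symm

end alg

section alg2

variable {K : Type u} [Field K] [IsAlgClosed K] {A B : Type u} [CommRing A] [Algebra K A]
  [Algebra.FiniteType K A] [CommRing B] [Algebra K B] [Algebra.FiniteType K B]
  (P : Ideal A) [P.IsPrime] (Q : Ideal B) [Q.IsPrime] (r s : ℕ)
  (hr : Algebra.trdeg K (A ⧸ P) = r) (hs : Algebra.trdeg K (B ⧸ Q) = s)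
  {I : Type*} [Fintype I]

include hr hs

theorem eventually_pair_const' (y : I → B) (hy : Ideal.span (Set.range y) = ⊤) (m : ℕ)
    (z : Fin m → B) (a : Fin m → A) :
    ∀ᶠ ℓ in genTuple K (I → K) m, ∀ (F : Type u) [Field F] [Algebra K F] (φ : A →ₐ[K] F)
      (ψ : B →ₐ[K] F) (_ : ∀ a ∈ P, φ a = 0) (_ : ∀ b ∈ Q, ψ b = 0) (μ : F),
      (∀ j, ψ (comb y (ℓ j) + z j) = μ * φ (a j)) →
      ∃ t : ℕ, Algebra.trdeg K ↥(φ.range ⊔ ψ.range) = t ∧ t + m ≤ r + s + 1 := by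
  have hy' : Ideal.span (Set.range (fun i => Ideal.Quotient.mkₐ K Q (y i))) = ⊤ := by
    have h1 : Ideal.map (Ideal.Quotient.mk Q) (Ideal.span (Set.range y)) = ⊤ := by
      rw [hy, Ideal.map_top]
    rw [Ideal.map_span, ← Set.range_comp] at h1
    exact h1
  filter_upwards [eventually_pair_const r s hr hs (fun i => Ideal.Quotient.mkₐ K Q (y i)) hy' m
    (fun j => Ideal.Quotient.mk Q (z j)) (fun j => Ideal.Quotient.mk P (a j))] with ℓ hℓ
  intro F _ _ φ ψ hφ hψ μ h1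
  have h3 := hℓ F (Ideal.Quotient.liftₐ P φ hφ) (Ideal.Quotient.liftₐ Q ψ hψ) μ (fun j => by
    have h4 := h1 j
    rw [map_add] at h4 ⊢
    rw [← comb_map]
    exact h4)
  rwa [range_liftₐ, range_liftₐ] at h3

end alg2

section scheme

variable {K : Type u} [Field K] [IsAlgClosed K] {X₁ X₂ : Scheme.{u}}
  (p₁ : X₁ ⟶ Spec (CommRingCat.of K)) (p₂ : X₂ ⟶ Spec (CommRingCat.of K))
  [LocallyOfFiniteType p₁] [LocallyOfFiniteType p₂] (δ₁ : X₁ → ℤ) (δ₂ : X₂ → ℤ)
  (hδ₁ : Cyc.DeltaCompat p₁ δ₁ (fun _ => 0)) (hδ₂ : Cyc.DeltaCompat p₂ δ₂ (fun _ => 0))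
  {I : Type} [Fintype I] (m : ℕ)

include hδ₁ hδ₂

/-- Incidence count for one chart. -/
theorem E2c {U : X₁.Opens} (hU : IsAffineOpen U) {V : X₂.Opens} (hV : IsAffineOpen V)
    (η : X₁) (τ : X₂) (y : I → Γ(X₂, V)) (hy : Ideal.span (Set.range y) = ⊤)
    (z : Fin m → Γ(X₂, V)) (a : Fin m → Γ(X₁, U)) :
    letI := (cst p₂ V).toAlgebra
    ∀ᶠ ℓ in genTuple K (I → K) m,
    ∀ (F : Type u) [Field F] (x₁ : X₁) (x₂ : X₂)
    (φ₁ : X₁.residueField x₁ →+* F) (φ₂ : X₂.residueField x₂ →+* F), kF p₁ φ₁ = kF p₂ φ₂ →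
    η ⤳ x₁ → τ ⤳ x₂ → ∀ (h₁ : x₁ ∈ U) (h₂ : x₂ ∈ V) (μ : F),
    (∀ j, φ₂ (X₂.evaluation V x₂ h₂ (comb y (ℓ j) + z j)) =
      μ * φ₁ (X₁.evaluation U x₁ h₁ (a j))) → δ₂ x₂ + m ≤ δ₁ η + δ₂ τ + 1 := by
  let _ := (cst p₂ V).toAlgebra
  let _ := (cst p₁ U).toAlgebra
  by_cases ha : η ∈ U
  swap
  · refine Filter.Eventually.of_forall fun ℓ F _ x₁ x₂ φ₁ φ₂ _ h1 _ h₁ => ?_
    exact absurd (h1.mem_open U.isOpen h₁) ha
  by_cases hb : τ ∈ V
  swap
  · refine Filter.Eventually.of_forall fun ℓ F _ x₁ x₂ φ₁ φ₂ _ _ h2 _ h₂ => ?_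
    exact absurd (h2.mem_open V.isOpen h₂) hb
  have hfa : Algebra.FiniteType K Γ(X₁, U) := cst_finiteType p₁ hU
  have hfb : Algebra.FiniteType K Γ(X₂, V) := cst_finiteType p₂ hV
  obtain ⟨nη, hη1, hη2⟩ := hδ₁ η
  obtain ⟨nτ, hτ1, hτ2⟩ := hδ₂ τ
  have hPa : (RingHom.ker (X₁.evaluation U η ha).hom).IsPrime := RingHom.ker_isPrime _
  have hPb : (RingHom.ker (X₂.evaluation V τ hb).hom).IsPrime := RingHom.ker_isPrime _
  filter_upwards [eventually_pair_const' _ _ nη nτ ((trdeg_quotient p₁ hU η ha).trans hη1)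
    ((trdeg_quotient p₂ hV τ hb).trans hτ1) y hy m z a] with ℓ hℓ
  intro F _ x₁ x₂ φ₁ φ₂ hK h1 h2 h₁ h₂ μ hval
  let _ : Algebra K F := (kF p₁ φ₁).toAlgebra
  let φ : Γ(X₁, U) →ₐ[K] F :=
    { φ₁.comp (X₁.evaluation U x₁ h₁).hom with
      commutes' := fun k => (kF_apply p₁ φ₁ U h₁ k).symm }
  let ψ : Γ(X₂, V) →ₐ[K] F :=
    { φ₂.comp (X₂.evaluation V x₂ h₂).hom with
      commutes' := fun k => (kF_apply p₂ φ₂ V h₂ k).symm.trans (RingHom.congr_fun hK k).symm }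
  obtain ⟨t, ht, htm⟩ := hℓ F φ ψ
    (fun z hz => by
      have hz' := RingHom.mem_ker.mp (ker_evaluation_le hU h1 ha h₁ hz)
      change φ₁ ((X₁.evaluation U x₁ h₁).hom z) = 0
      rw [hz', map_zero])
    (fun z hz => by
      have hz' := RingHom.mem_ker.mp (ker_evaluation_le hV h2 hb h₂ hz)
      change φ₂ ((X₂.evaluation V x₂ h₂).hom z) = 0
      rw [hz', map_zero]) μ
    (fun j => hval j)
  let _ : Algebra K (X₂.residueField x₂) := (kF p₂ (RingHom.id (X₂.residueField x₂))).toAlgebra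
  let ev : Γ(X₂, V) →ₐ[K] X₂.residueField x₂ :=
    { (X₂.evaluation V x₂ h₂).hom with
      commutes' := fun k => (kF_apply p₂ (RingHom.id (X₂.residueField x₂)) V h₂ k).symm }
  let χ : X₂.residueField x₂ →ₐ[K] F :=
    { φ₂ with commutes' := fun k => (RingHom.congr_fun hK k).symm }
  have h3 := trdeg_le_of_fracGen ev (fracGen_evaluation hV x₂ h₂) χ (φ.range ⊔ ψ.range)
    (fun z => (le_sup_right : ψ.range ≤ φ.range ⊔ ψ.range) ⟨z, rfl⟩)
  rw [ht] at h3
  obtain ⟨n₂, hn1, hn2⟩ := hδ₂ x₂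
  have h4 : Algebra.trdeg K (X₂.residueField x₂) = n₂ := (trd_kF p₂ x₂).trans hn1
  rw [h4] at h3
  have h5 : n₂ ≤ t := by exact_mod_cast h3
  rw [hn2, hη2, hτ2]
  dsimp only
  omega

end scheme

end K304.FamCount
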