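import Groth.Agent.IntMult.K304.FamKey
import Groth.Agent.CycA.IntLocal

/-!
# Existence of the moving family on projective space
-/

set_option autoImplicit false
universe u
open CategoryTheory CategoryTheory.Limits AlgebraicGeometry TopologicalSpace Filter

namespace K304.FamFinal

open Groth.Agent
open FamCount FamBasic LinStd FamKey FamGeo

theorem main (K : Type u) [Field K] [IsAlgClosed K] (N : ℕ) (δ0 : ↥(PN K N) → ℤ)
    (hP : Cyc.IsSetup (PN K N) δ0) (hδ0 : Cyc.DeltaCompat (pN K N) δ0 (fun _ => 0))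
    (δ1 : ↥(CohB1.ProjSpaceOver 1 (PN K N)) → ℤ)
    (hP' : Cyc.IsSetup (CohB1.ProjSpaceOver 1 (PN K N)) δ1) (hδ1 : Cyc.DeltaCompat (tb K N) δ1 δ0)
    (ξC : ↥(PN K N)) (c : ℕ) (hc : δ0 ξC = c) (X : Scheme.{u}) [IsIntegral X] (ι : X ⟶ PN K N)
    [IsClosedImmersion ι] (n : ℕ) (hn : δ0 (ι (genericPoint X)) = n) (m : ℕ) (T : Fin m → X)
    (d : Fin m → ℕ) (hd : ∀ i, δ0 (ι (T i)) = d i)
    (hCX : IntMult.ProperInt (closure {ξC}) (Set.range ⇑ι) N c n) :
    ∃ (C' : Scheme.{u}) (_ : IsIntegral C') (ι' : C' ⟶ CohB1.ProjSpaceOver 1 (PN K N))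
      (_ : IsClosedImmersion ι'), δ1 (ι' (genericPoint C')) = c + 1 ∧
      IsReduced (pullback ι' (P1.sect (PN K N) 0)) ∧
      Set.range ⇑(pullback.snd ι' (P1.sect (PN K N) 0)) = closure {ξC} ∧
      IntMult.ProperInt (closure {ι' (genericPoint C')}) (⇑(tb K N) ⁻¹' Set.range ⇑ι)
        (N + 1) (c + 1) (n + 1) ∧
      ∀ i : Fin m, IntMult.ProperInt (Set.range ⇑(pullback.snd ι' (P1.sect (PN K N) 1)))
        (closure {ι (T i)}) N c (d i) := by
  classical
  have hM : Cyc.DeltaCompat (tb K N ≫ pN K N) δ1 (fun _ => 0) :=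
    CycB.RelDim.deltaCompat_comp hδ1 hδ0
  have hsm : Smooth (pN K N) := CycA.MovZ.smooth_toSpec K N
  have hpr : IsProper (pN K N) := CycA.MovZ.isProper_toSpec K N
  have hint : IsIntegral (PN K N) := CycA.MovZ.isIntegral_proj K N
  have hlft : LocallyOfFiniteType (tb K N) := CycA.MovGeo.lft_toBase _
  have hinf : Infinite K := IsAlgClosed.instInfinite
  have hn0 : δ0 (genericPoint (PN K N)) = N := CycA.MovZ.delta_genericPoint hδ0
  have hnn0 : ∀ x, 0 ≤ δ0 x := fun x => by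
    obtain ⟨k, hk, -⟩ := K304.DimBasic.dim_closure (pN K N) hδ0 x
    rw [hk]; exact Int.natCast_nonneg k
  have hnn1 : ∀ x, 0 ≤ δ1 x := fun x => by
    obtain ⟨k, hk, -⟩ := K304.DimBasic.dim_closure (tb K N ≫ pN K N) hM x
    rw [hk]; exact Int.natCast_nonneg k
  have hσ : ∀ i x, δ1 (P1.sect (PN K N) i x) = δ0 x := fun i => CycA.MovGeo.delta_sect hδ1 i
  have hπσ : ∀ i x, tb K N (P1.sect (PN K N) i x) = x := fun i =>
    CycA.SectGeom.toBase_sect_apply i
  -- the generic family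
  obtain ⟨τ₀, hτ₀, hτ₀'⟩ := exists_cyl hδ1 (ι (genericPoint X))
  have hev : ∀ᶠ ℓ' in CycA.MovForms.genTuple K (Fin (N + 1) → K) (N + 1),
      Good δ0 δ1 ξC τ₀ ℓ' ∧ ∀ i, Good δ0 δ1 ξC (P1.sect (PN K N) 1 (ι (T i))) ℓ' :=
    (eventually_good hδ0 hM ξC τ₀).and
      (Filter.eventually_all.2 fun i => eventually_good hδ0 hM ξC _)
  obtain ⟨ℓ', hgood₀, hgood₁⟩ := hev.exists
  have h₀ := iSup_stdL (pN K N) (DN K N)
  have hs₀ := CycA.MovP1.s₀_ι (pN K N) (DN K N) (LN K N) ℓ' h₀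
  have hid : CycA.MovP1.s₀ (pN K N) (DN K N) (LN K N) ℓ' h₀ ≫
      CycA.MovP1.hmap (pN K N) (DN K N) (LN K N) ℓ' = 𝟙 (PN K N) := by
    rw [CycA.MovP1.s₀_hmap, linMap_std]
  obtain ⟨ω, hω1, hω2, hω3⟩ := exists_family (pN K N) hδ0 hn0 hδ1 hs₀ hid ξC
  set w := (CycA.MovP1.Om (pN K N) (DN K N) (LN K N) ℓ').ι ω with hw
  have hwg : CycB.PtClosure.ptClι w (genericPoint (CycB.PtClosure.ptCl w)) = w :=
    CycB.PtClosure.ptClι_genericPoint w
  obtain ⟨hf1, hf2⟩ := fibre_zero hs₀ hid hω1 hω2 (CycB.PtClosure.ptClι w) (hwg.trans hw)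
  have hS0 : ∀ x, w ⤳ P1.sect (PN K N) 0 x → ξC ⤳ x := by
    intro x hx
    have h1 : x ∈ Set.range (pullback.snd (CycB.PtClosure.ptClι w) (P1.sect (PN K N) 0)) := by
      rw [CycA.FibreComp.mem_range_snd_iff, hwg]
      exact hx
    rw [hf2] at h1
    exact specializes_iff_mem_closure.2 h1
  refine ⟨CycB.PtClosure.ptCl w, inferInstance, CycB.PtClosure.ptClι w, inferInstance, ?_, hf1,
    hf2, ?_, ?_⟩
  · rw [hwg]
    refine hω3.trans ?_
    rw [hc]
  · -- the intersection with `X × P^1`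
    rw [hwg]
    have hcl : IsClosed (closure {w} ∩ (⇑(tb K N) ⁻¹' Set.range ⇑ι)) :=
      isClosed_closure.inter (ι.isClosedEmbedding.isClosed_range.preimage
        (tb K N).continuous)
    have hbd : ∀ z ∈ closure {w} ∩ (⇑(tb K N) ⁻¹' Set.range ⇑ι),
        δ1 z + N ≤ c + n + 1 := by
      rintro z ⟨hz1, hz2⟩
      have hwz : w ⤳ z := specializes_iff_mem_closure.2 hz1
      by_cases hz : z ∈ Set.range (P1.sect (PN K N) 0)
      · obtain ⟨x, rfl⟩ := hz
        have h1 := hS0 x hwz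
        have h2 : x ∈ closure {ξC} ∩ Set.range ⇑ι := by
          refine ⟨specializes_iff_mem_closure.1 h1, ?_⟩
          have h3 : tb K N (P1.sect (PN K N) 0 x) ∈ Set.range ⇑ι := hz2
          rwa [hπσ] at h3
        obtain ⟨h3, h4⟩ := hCX ⟨x, h2⟩
        obtain ⟨k, hk, hk'⟩ := K304.DimBasic.dim_closure (pN K N) hδ0 x
        have h5 := (CycA.IntLocal.dim_closure_le (isClosed_closure.inter
          ι.isClosedEmbedding.isClosed_range) h2).trans h4
        have h6 : (k : WithBot ℕ∞) ≤ ((c + n - N : ℕ) : WithBot ℕ∞) := by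
          rw [← hk']
          exact h5
        have h7 : k ≤ c + n - N := by exact_mod_cast h6
        rw [hσ, hk]
        omega
      · have h1 := mem_chart_or z hz
        have h2 : ι (genericPoint X) ⤳ tb K N z := by
          obtain ⟨x, hx⟩ := hz2
          rw [← hx]
          exact (genericPoint_specializes x).map ι.continuous
        have h3 := key hgood₀ hω2 hwz (hτ₀' z h2) h1
        rw [hτ₀] at h3
        rw [hc, hn] at h3
        push_cast at h3
        omega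
    rintro ⟨z, hz⟩
    have h1 := hbd z hz
    have h2 := hnn1 z
    have h3 : N + 1 ≤ c + 1 + (n + 1) := by omega
    refine ⟨h3, ?_⟩
    refine topologicalKrullDim_le_of_delta hP'.2.2 hnn1 hcl fun z hz => ?_
    have h4 := hbd z hz
    omega
  · -- the fibre at infinity
    intro i
    have hbd : ∀ x ∈ Set.range ⇑(pullback.snd (CycB.PtClosure.ptClι w) (P1.sect (PN K N) 1)) ∩
        closure {ι (T i)}, δ0 x + N ≤ c + d i := by
      rintro x ⟨hx1, hx2⟩
      rw [CycA.FibreComp.mem_range_snd_iff, hwg] at hx1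
      have h1 : P1.sect (PN K N) 1 x ∈ (CycA.MovP1.stdP1 (PN K N)).U 1 := by
        have h2 := CycA.MovP1.sect_preimage (PN K N) 1
        have h3 : x ∈ P1.sect (PN K N) 1 ⁻¹ᵁ (CycA.MovP1.stdP1 (PN K N)).U 1 := by
          rw [h2]; trivial
        exact h3
      have h2 : P1.sect (PN K N) 1 (ι (T i)) ⤳ P1.sect (PN K N) 1 x :=
        (specializes_iff_mem_closure.2 hx2).map (P1.sect (PN K N) 1).continuous
      have h3 := key (hgood₁ i) hω2 hx1 h2 h1
      rw [hσ, hσ] at h3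
      rw [hc, hd i] at h3
      push_cast at h3
      omega
    have hcl : IsClosed (Set.range ⇑(pullback.snd (CycB.PtClosure.ptClι w)
        (P1.sect (PN K N) 1)) ∩ closure {ι (T i)}) :=
      (pullback.snd (CycB.PtClosure.ptClι w)
        (P1.sect (PN K N) 1)).isClosedEmbedding.isClosed_range.inter isClosed_closure
    rintro ⟨x, hx⟩
    have h1 := hbd x hx
    have h2 := hnn0 x
    have h3 : N ≤ c + d i := by omega
    refine ⟨h3, ?_⟩
    refine topologicalKrullDim_le_of_delta hP.2.2 hnn0 hcl fun x hx => ?_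
    have h4 := hbd x hx
    omega

end K304.FamFinal
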