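import Groth.Agent.CycA.MovGeo
import Groth.Agent.CycA.DivMult2
import Groth.Agent.CycA.FibreComp
import Groth.Agent.CycA.LenPow

/-!
# Families extending the identity: the fibre over `0`

`h : Ω → X` on an open `Ω ⊆ P^1_X` containing the zero section `s₀`, with `s₀ ≫ h = 𝟙`. For every
point `x` there is `ω ∈ Ω` with `ω ⤳ s₀ x`, `h ω = x`, `δ ω = δ x + 1` and the fibre over `0` of the
closure of `ω` is the closure of `x` with its reduced structure.
-/

set_option autoImplicit false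
universe u
open CategoryTheory CategoryTheory.Limits AlgebraicGeometry TopologicalSpace

namespace K304.FamGeo

open Groth.Agent

open Groth.Agent.CycB.RelDim Groth.Agent.CycB.LocQuot Groth.Agent.CycA.MovGeo Groth.Agent.CycA

section

variable {K : Type u} [Field K] {X : Scheme.{u}} {δ : X → ℤ} {n : ℤ}
  {δP : ↥(CohB1.ProjSpaceOver 1 X) → ℤ}
  {Ω : (CohB1.ProjSpaceOver 1 X).Opens} {h : (Ω : Scheme.{u}) ⟶ X} {s₀ : X ⟶ (Ω : Scheme.{u})}

theorem length_id {f : X ⟶ X} (hf : f = 𝟙 X) (x : X) :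
    (Module.length (X.presheaf.stalk x) (X.presheaf.stalk x ⧸ fibIdeal f x)).toNat = 1 := by
  subst hf
  have h1 : fibIdeal (𝟙 X) x = IsLocalRing.maximalIdeal (X.presheaf.stalk x) := by
    rw [fibIdeal, Scheme.Hom.stalkMap_id]
    exact Ideal.map_id _
  rw [h1]
  have : IsSimpleModule (X.presheaf.stalk x)
      (X.presheaf.stalk x ⧸ IsLocalRing.maximalIdeal (X.presheaf.stalk x)) := by
    rw [isSimpleModule_iff_isCoatom]
    exact (IsLocalRing.maximalIdeal.isMaximal _).out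
  rw [Module.length_eq_one]
  rfl

theorem exists_family [IsIntegral X] (p : X ⟶ Spec (CommRingCat.of K)) [Smooth p]
    (hδ : Cyc.DeltaCompat p δ (fun _ => 0)) (hn : δ (genericPoint X) = n)
    (hP : Cyc.DeltaCompat (CohB1.ProjSpaceOver.toBase 1 X) δP δ)
    (hs₀ : s₀ ≫ Ω.ι = P1.sect X 0) (hid : s₀ ≫ h = 𝟙 X) (x : X) :
    ∃ ω : (Ω : Scheme.{u}), ω ⤳ s₀ x ∧ h ω = x ∧ δP (Ω.ι ω) = δ x + 1 := by
  have hfδ : ∀ x, δ ((s₀ ≫ h) x) = δ x := fun x => by rw [hid]; rfl
  obtain ⟨-, h2⟩ := length_formula p hδ hn hP p hδ hn hs₀ hfδ x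
  rw [length_id hid] at h2
  by_contra hne
  push Not at hne
  have h3 : h (s₀ x) = x := by
    rw [← Scheme.Hom.comp_apply, hid]
    rfl
  have hempty : {ω : (Ω : Scheme.{u}) | ω ⤳ s₀ x ∧ h ω = h (s₀ x) ∧ δP (Ω.ι ω) = δ x + 1} = ∅ := by
    ext ω
    simp only [Set.mem_ofPred_eq, Set.mem_empty_iff_false, iff_false]
    rintro ⟨h4, h5, h6⟩
    exact hne ω h4 (h5.trans h3) h6
  rw [hempty] at h2
  simp at h2

theorem ker_specMap_congr {x ξ ξ' : X} (e : ξ = ξ') (h1 : ξ ⤳ x) (h2 : ξ' ⤳ x) :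
    RingHom.ker (Cyc.specMap x ξ h1) = RingHom.ker (Cyc.specMap x ξ' h2) := by
  subst e; rfl

theorem surjective_stalkMap_of_eq_id {f : X ⟶ X} (hf : f = 𝟙 X) (x : X) :
    Function.Surjective (f.stalkMap x).hom := by
  subst hf
  rw [Scheme.Hom.stalkMap_id]
  exact fun a => ⟨a, rfl⟩

/-- The ideal of the closure of `ω` restricts to the ideal of the closure of `ξ`. -/
theorem map_ker_eq (hid : s₀ ≫ h = 𝟙 X) {ω : (Ω : Scheme.{u})} {ξ x : X}
    (hω : ω ⤳ s₀ ξ) (hξ : h ω = ξ) (hx : ξ ⤳ x) (hωx : ω ⤳ s₀ x) :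
    (RingHom.ker (Cyc.specMap (s₀ x) ω hωx)).map (s₀.stalkMap x).hom =
      RingHom.ker (Cyc.specMap x ξ hx) := by
  apply le_antisymm
  · rw [Ideal.map_le_iff_le_comap, comap_ker s₀ hx, ker_le_iff]
    exact hω
  · intro g hg
    obtain ⟨g', hg'⟩ := surjective_stalkMap_of_eq_id hid x g
    have h2 : g' ∈ (RingHom.ker (Cyc.specMap x ξ hx)).comap ((s₀ ≫ h).stalkMap x).hom := by
      rw [Ideal.mem_comap, hg']
      exact hg
    rw [comap_ker (s₀ ≫ h) hx] at h2
    have h3 : (s₀ ≫ h) ξ = h ω := by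
      rw [hξ, hid]
      rfl
    have h6 : h ω ⤳ (s₀ ≫ h) x := hωx.map h.continuous
    rw [ker_specMap_congr h3 _ h6] at h2
    have h4 : g' ∈ (RingHom.ker (Cyc.specMap (s₀ x) ω hωx)).comap (h.stalkMap (s₀ x)).hom := by
      rw [comap_ker h hωx]
      exact h2
    have h5 : (s₀.stalkMap x).hom ((h.stalkMap (s₀ x)).hom g') = g := by
      rw [← hg', Scheme.Hom.stalkMap_comp]
      rfl
    rw [← h5]
    exact Ideal.mem_map_of_mem _ h4

theorem isReduced_of_ker_prime {W Y : Scheme.{u}} (i : W ⟶ Y) [IsClosedImmersion i]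
    (H : ∀ w : W, (RingHom.ker (i.stalkMap w).hom).IsPrime) : IsReduced W := by
  have : ∀ w : W, _root_.IsReduced (W.presheaf.stalk w) := by
    intro w
    have hs := i.stalkMap_surjective w
    have hp := H w
    have e := RingHom.quotientKerEquivOfSurjective hs
    have : IsDomain (Y.presheaf.stalk (i w) ⧸ RingHom.ker (i.stalkMap w).hom) :=
      Ideal.Quotient.isDomain _
    have : IsDomain (W.presheaf.stalk w) := e.symm.toMulEquiv.isDomain _
    infer_instance
  exact isReduced_of_isReduced_stalk W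

/-- The fibre over `0` of the closure of `ω` is the closure of `ξ`. -/
theorem fibre_zero (hs₀ : s₀ ≫ Ω.ι = P1.sect X 0) (hid : s₀ ≫ h = 𝟙 X)
    {ω : (Ω : Scheme.{u})} {ξ : X} (hω : ω ⤳ s₀ ξ) (hξ : h ω = ξ) {W : Scheme.{u}} [IsIntegral W]
    (ι : W ⟶ CohB1.ProjSpaceOver 1 X) [IsClosedImmersion ι] (hW : ι (genericPoint W) = Ω.ι ω) :
    IsReduced (pullback ι (P1.sect X 0)) ∧
      Set.range ⇑(pullback.snd ι (P1.sect X 0)) = closure {ξ} := by
  have hspec : ∀ x : X, ι (genericPoint W) ⤳ P1.sect X 0 x ↔ ξ ⤳ x := by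
    intro x
    have h1 : ∀ x : X, P1.sect X 0 x = Ω.ι (s₀ x) := fun x => by
      rw [← hs₀, Scheme.Hom.comp_apply]
    rw [hW, h1, Ω.ι.isOpenEmbedding.isInducing.specializes_iff]
    constructor
    · intro h2
      have h3 := h2.map h.continuous
      rw [hξ, ← Scheme.Hom.comp_apply, hid] at h3
      exact h3
    · intro h2
      exact hω.trans (h2.map s₀.continuous)
  constructor
  · refine isReduced_of_ker_prime (pullback.snd ι (P1.sect X 0)) fun w => ?_
    set x := pullback.snd ι (P1.sect X 0) w with hx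
    have hx1 : ι (genericPoint W) ⤳ P1.sect X 0 x :=
      (FibreComp.mem_range_snd_iff ι (P1.sect X 0) x).1 ⟨w, rfl⟩
    have e1 : (pullback.snd ι (P1.sect X 0)).ker = ι.ker.comap (P1.sect X 0) := by
      rw [← Scheme.IdealSheafData.ker_fst_of_isClosedImmersion ι (P1.sect X 0),
        ← pullbackSymmetry_hom_comp_fst, Scheme.Hom.ker_comp_of_isIso]
    have h0 : ξ ⤳ x := (hspec x).1 hx1
    have h5 : ω ⤳ s₀ x := hω.trans (h0.map s₀.continuous)
    have h2 : RingHom.ker ((pullback.snd ι (P1.sect X 0)).stalkMap w).hom =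
        RingHom.ker (Cyc.specMap x ξ h0) := by
      rw [Divis.CartierStalk.ker_stalkMap, e1, Divis.CartierStalk.stalkIdeal_comap]
      have h3 := DivMult.stalkIdeal_ker_eq_ptIdeal ι (P1.sect X 0 x)
      have h4 := map_stalkIdeal_eq hs₀ h5
      rw [← hW] at h4
      refine Eq.trans ?_ (h4.trans (map_ker_eq hid hω hξ h0 h5))
      exact congrArg (Ideal.map ((P1.sect X 0).stalkMap x).hom) h3
    rw [h2]
    exact RingHom.ker_isPrime _
  · ext x
    rw [FibreComp.mem_range_snd_iff, hspec, specializes_iff_mem_closure]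

end

end K304.FamGeo
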