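import Groth.Agent.CycA.MovProj

/-!
# The linear map defined by the standard forms on projective space is the identity
-/

set_option autoImplicit false
universe u
open CategoryTheory AlgebraicGeometry HomogeneousLocalization

namespace K304.LinStd

open Groth.Agent

open Groth.Agent.VarietyB.ProjHom Groth.Agent.VarietyB.ProjGlue Groth.Agent.VarietyB.ProjStd
open Groth.Agent.CycA.MovVec Groth.Agent.CycA.MovCoord Groth.Agent.CycA.MovForms
open Groth.Agent.CycA.MovProj

attribute [local instance] MvPolynomial.gradedAlgebra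

variable {K : Type u} [Field K] {I : Type} [Fintype I] [DecidableEq I]

/-- The coordinate forms. -/
def stdL (I : Type) [DecidableEq I] (K : Type u) [Field K] : I → I → K := fun j => Pi.single j 1

theorem form_stdL {X : Scheme.{u}} (p : X ⟶ Spec (CommRingCat.of K)) (D : CoordData X I) (a j : I) :
    form p D a (stdL I K j) = D.f a j := by
  unfold form stdL
  rw [Finset.sum_eq_single j]
  · rw [Pi.single_eq_same, map_one, one_mul]
  · intro i _ hi
    rw [Pi.single_eq_of_ne hi, map_zero, zero_mul]
  · intro h
    exact absurd (Finset.mem_univ j) h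

theorem iSup_stdL {X : Scheme.{u}} (p : X ⟶ Spec (CommRingCat.of K)) (D : CoordData X I) :
    ⨆ α : I × I, X.basicOpen (form p D α.2 (stdL I K α.1)) = ⊤ := by
  rw [eq_top_iff, ← D.iSup_U]
  refine iSup_le fun a => le_trans ?_ (le_iSup _ (a, a))
  dsimp only
  rw [form_stdL, D.f_self, Scheme.basicOpen_of_isUnit _ isUnit_one]

/-- The coordinate data as local coordinate vectors. -/
noncomputable def vec {X : Scheme.{u}} (D : CoordData X I) : VecData X I I where
  V := D.U
  iSup_V := D.iSup_U
  g := D.f
  t := id
  isUnit α := by rw [id, D.f_self]; exact isUnit_one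
  compat α β := ⟨(D.f_isUnit α β).unit, fun k => by
    rw [IsUnit.unit_spec]
    exact D.f_mul α β k⟩

omit [Fintype I] [DecidableEq I] in
theorem vec_toProjSpace {X : Scheme.{u}} (p : X ⟶ Spec (CommRingCat.of K)) (D : CoordData X I) :
    (vec D).toProjSpace p = D.toProjSpace p := by
  apply hom_ext_opens D.U D.iSup_U
  intro i
  rw [CoordData.ι_toProjSpace]
  exact (vec D).ι_toProjSpace p i

theorem linMap_stdL {X : Scheme.{u}} (p : X ⟶ Spec (CommRingCat.of K)) (D : CoordData X I) 
    (h : ⨆ α : I × I, X.basicOpen (form p D α.2 (stdL I K α.1)) = ⊤) :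
    linMap p D (stdL I K) h = D.toProjSpace p := by
  rw [← vec_toProjSpace]
  apply VecData.toProjSpace_congr
  rintro ⟨j, a⟩ b
  have ha : X.basicOpen (form p D a (stdL I K j)) ⊓ D.U b ≤ D.U a :=
    inf_le_left.trans (X.basicOpen_le _)
  have hb : X.basicOpen (form p D a (stdL I K j)) ⊓ D.U b ≤ D.U b := inf_le_right
  refine ⟨(isUnit_map_f D a b _ ha hb).unit, fun k => ?_⟩
  rw [IsUnit.unit_spec]
  have h1 := map_form p D (stdL I K k) _ ha hb
  refine (map_map_apply _ _ _).trans (h1.trans ?_)
  exact congrArg (fun z => X.presheaf.map (homOfLE ha).op (D.f a b) *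
    X.presheaf.map (homOfLE hb).op z) (form_stdL p D b k)

/-- On projective space the coordinate forms define the identity. -/
theorem linMap_std (h : ⨆ α : I × I, (Proj (MvPolynomial.homogeneousSubmodule I K)).basicOpen
      (form (toSpec I K) (stdData I K) α.2 (stdL I K α.1)) = ⊤) :
    linMap (toSpec I K) (stdData I K) (stdL I K) h = 𝟙 _ := by
  rw [linMap_stdL, toProjSpace_std]

end K304.LinStd
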