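import Groth.Agent.IntMult.K304.FamBasic
import Groth.Agent.IntMult.K304.LinStd
import Groth.Agent.IntMult.K304.FamGeo
import Groth.Agent.CycA.MovZ

/-!
# Dimension of the members of the moving family along a closed set
-/

set_option autoImplicit false
universe u
open CategoryTheory CategoryTheory.Limits AlgebraicGeometry TopologicalSpace Filter

namespace K304.FamKey

open Groth.Agent

open P1 Groth.Agent.CycB.P1Chart
open Groth.Agent.VarietyB.ProjHom Groth.Agent.VarietyB.ProjGlue Groth.Agent.VarietyB.ProjStd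
open Groth.Agent.CycA.MovP1 Groth.Agent.CycA.MovCoord Groth.Agent.CycA.MovForms
open Groth.Agent.CycA.MovProj Groth.Agent.CycA.MovSeg Groth.Agent.CycA.MovExc
open Groth.Agent.CycA.MovT4 Groth.Agent.CycA
open FamCount FamBasic LinStd

attribute [local instance] MvPolynomial.gradedAlgebra

variable {K : Type u} [Field K] {N : ℕ}

/-- Projective space. -/
noncomputable abbrev PN (K : Type u) [Field K] (N : ℕ) : Scheme.{u} :=
  Proj (MvPolynomial.homogeneousSubmodule (Fin (N + 1)) K)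

/-- The structure morphism. -/
noncomputable abbrev pN (K : Type u) [Field K] (N : ℕ) : PN K N ⟶ Spec (CommRingCat.of K) :=
  toSpec (Fin (N + 1)) K

/-- The coordinate data. -/
noncomputable abbrev DN (K : Type u) [Field K] (N : ℕ) : CoordData (PN K N) (Fin (N + 1)) :=
  stdData (Fin (N + 1)) K

/-- The coordinate forms. -/
abbrev LN (K : Type u) [Field K] (N : ℕ) : Fin (N + 1) → Fin (N + 1) → K := stdL (Fin (N + 1)) K

/-- The base projection. -/
noncomputable abbrev tb (K : Type u) [Field K] (N : ℕ) :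
    CohB1.ProjSpaceOver 1 (PN K N) ⟶ PN K N := CohB1.ProjSpaceOver.toBase 1 (PN K N)

variable {δ : PN K N → ℤ} {δP : ↥(CohB1.ProjSpaceOver 1 (PN K N)) → ℤ}

/-- The generic incidence condition. -/
def Good (δ : PN K N → ℤ) (δP : ↥(CohB1.ProjSpaceOver 1 (PN K N)) → ℤ) (η : PN K N)
    (τ : ↥(CohB1.ProjSpaceOver 1 (PN K N))) (ℓ' : Fin (N + 1) → Fin (N + 1) → K) : Prop :=
  ∀ (F : Type u) [Field F] (x₁ : PN K N)
    (z : ↥(CohB1.ProjSpaceOver 1 (PN K N))) (φ₁ : (PN K N).residueField x₁ →+* F)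
    (φ₂ : (CohB1.ProjSpaceOver 1 (PN K N)).residueField z →+* F),
    kF (pN K N) φ₁ = kF (tb K N ≫ pN K N) φ₂ → η ⤳ x₁ → τ ⤳ z →
    ∀ (a b : Fin (N + 1)) (h₁ : x₁ ∈ (DN K N).U a) (h₂ : z ∈ (SD (DN K N)).U (1, b)) (μ : F),
    (∀ j, val (tb K N ≫ pN K N) (SD (DN K N)) (1, b) h₂ φ₂ (segForm (LN K N j) (ℓ' j)) =
      μ * val (pN K N) (DN K N) a h₁ φ₁ (LN K N j)) →
    δP z + (N + 1 : ℕ) ≤ δ η + δP τ + 1

theorem eventually_good [IsAlgClosed K] (hδ : Cyc.DeltaCompat (pN K N) δ (fun _ => 0))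
    (hδP : Cyc.DeltaCompat (tb K N ≫ pN K N) δP (fun _ => 0)) (η : PN K N)
    (τ : ↥(CohB1.ProjSpaceOver 1 (PN K N))) :
    ∀ᶠ ℓ' in genTuple K (Fin (N + 1) → K) (N + 1), Good δ δP η τ ℓ' := by
  have h1 : Smooth (pN K N) := MovZ.smooth_toSpec K N
  have h2 : LocallyOfFiniteType (tb K N) := MovGeo.lft_toBase _
  exact eventually_fam (pN K N) (DN K N) hδ hδP (fun a => isAffineOpen_U (Fin (N + 1)) K a)
    (N + 1) η τ (LN K N) (LN K N)

/-- Two points of schemes over `K` have a common extension of residue fields. -/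
theorem exists_common {X Y : Scheme.{u}} (p : X ⟶ Spec (CommRingCat.of K))
    (q : Y ⟶ Spec (CommRingCat.of K)) (x : X) (y : Y) :
    ∃ (F : Type u) (_ : Field F) (φ₁ : X.residueField x →+* F) (φ₂ : Y.residueField y →+* F),
      kF p φ₁ = kF q φ₂ := by
  have hsub : Subsingleton (Spec (CommRingCat.of K)) :=
    inferInstanceAs (Subsingleton (PrimeSpectrum K))
  obtain ⟨F, hF, φ₁, φ₂, h⟩ := exists_common_point₂ p q (Subsingleton.elim (p x) (q y))
  refine ⟨F, hF, φ₁, φ₂, ?_⟩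
  have hs := sigma_eq φ₁ φ₂ h
  have k1 := kF_comp p (𝟙 _) φ₁
  have k2 := kF_comp q (𝟙 _) φ₂
  rw [Category.comp_id] at k1 k2
  rw [k1, k2]
  exact kF_congr (𝟙 _) hs

theorem key {η : PN K N} {τ : ↥(CohB1.ProjSpaceOver 1 (PN K N))}
    {ℓ' : Fin (N + 1) → Fin (N + 1) → K} (hgood : Good δ δP η τ ℓ')
    {ω : (Om (pN K N) (DN K N) (LN K N) ℓ').toScheme}
    (hω : hmap (pN K N) (DN K N) (LN K N) ℓ' ω = η) {z : ↥(CohB1.ProjSpaceOver 1 (PN K N))}
    (hωz : (Om (pN K N) (DN K N) (LN K N) ℓ').ι ω ⤳ z) (hτ : τ ⤳ z)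
    (hz : z ∈ (stdP1 (PN K N)).U 1) : δP z + (N + 1 : ℕ) ≤ δ η + δP τ + 1 := by
  obtain ⟨b, hb⟩ := exists_chart (DN K N) (tb K N z)
  have hzb : z ∈ (SD (DN K N)).U (1, b) := ⟨hz, hb⟩
  by_cases hzO : z ∈ Om (pN K N) (DN K N) (LN K N) ℓ'
  · -- the point is in the domain of the family
    obtain ⟨z', rfl⟩ : z ∈ Set.range (Om (pN K N) (DN K N) (LN K N) ℓ').ι := by
      rw [Scheme.Opens.range_ι]
      exact hzO
    have h1 : ω ⤳ z' := by
      rwa [(Om (pN K N) (DN K N) (LN K N) ℓ').ι.isOpenEmbedding.isInducing.specializes_iff] at hωz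
    have h2 : η ⤳ hmap (pN K N) (DN K N) (LN K N) ℓ' z' := by
      rw [← hω]
      exact h1.map (hmap (pN K N) (DN K N) (LN K N) ℓ').continuous
    have h₀ := iSup_stdL (pN K N) (DN K N)
    have hid := linMap_std (K := K) (I := Fin (N + 1)) h₀
    obtain ⟨F, hF, φ₁, φ₂, h3⟩ := exists_common_point₂ (linMap (pN K N) (DN K N) (LN K N) h₀)
      (hmap (pN K N) (DN K N) (LN K N) ℓ') (v := hmap (pN K N) (DN K N) (LN K N) ℓ' z')
      (ζ := z') (by rw [hid]; rfl)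
    obtain ⟨hK, h4⟩ := T4 (pN K N)
      ((Om (pN K N) (DN K N) (LN K N) ℓ').ι ≫ tb K N ≫ pN K N) (DN K N)
      (pullbackData (Om (pN K N) (DN K N) (LN K N) ℓ').ι (SD (DN K N))) (LN K N)
      (fun j => segForm (LN K N j) (ℓ' j)) h₀
      (famOpen_iSup (tb K N) (pN K N) (stdP1 (PN K N)) (DN K N) (LN K N) ℓ') φ₁ φ₂ h3
    obtain ⟨a, ha⟩ := exists_chart (DN K N) (hmap (pN K N) (DN K N) (LN K N) ℓ' z')
    obtain ⟨μ, hμ, h5⟩ := h4 a (1, b) ha hzb
    refine hgood F _ _ φ₁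
      (φ₂.comp ((Om (pN K N) (DN K N) (LN K N) ℓ').ι.residueFieldMap z').hom) ?_ h2 hτ a b ha hzb
      μ⁻¹ fun j => ?_
    · rw [hK]
      exact kF_comp (Om (pN K N) (DN K N) (LN K N) ℓ').ι (tb K N ≫ pN K N) φ₂
    · rw [h5 j, inv_mul_cancel_left₀ hμ]
      exact (val_pullback _ _ _ _ _ _ _ _).symm
  · -- all forms vanish
    obtain ⟨F, hF, φ₁, φ₂, hK⟩ := exists_common (pN K N) (tb K N ≫ pN K N) η z
    obtain ⟨a, ha⟩ := exists_chart (DN K N) η
    refine hgood F η z φ₁ φ₂ hK (specializes_refl η) hτ a b ha hzb 0 fun j => ?_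
    rw [zero_mul]
    by_contra hne
    apply hzO
    unfold Om famOpen
    rw [TopologicalSpace.Opens.mem_iSup]
    refine ⟨(j, (1, b)), ?_⟩
    rw [← Scheme.evaluation_ne_zero_iff_mem_basicOpen _ _ hzb]
    intro h0
    apply hne
    unfold val
    rw [h0, map_zero]

end K304.FamKey
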