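import Groth.Agent.IntMult.K304.LocFlat
import Groth.Agent.IntMult.K304.FlatRel
import Groth.Agent.IntMult.K304.PullProd
import Groth.Agent.CycB.PushFinite

/-!
# The intersection of a closed subvariety `g : X → W` with a flat pullback `p^* c`, when `p ∘ g` is flat
-/

set_option autoImplicit false
universe u
open CategoryTheory CategoryTheory.Limits AlgebraicGeometry

namespace K304.GraphLem

open Groth.Agent Groth.Agent.CycB.RelDim Groth.Agent.CycB.LocQuot Groth.Agent.CycA.PFFib
  Groth.Agent.CycB.PFAssemble Groth.Agent.CycA.MovRatZ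

/-- Purely algebraic form. -/
theorem chi_surj {A B C : Type u} [CommRing A] [CommRing B] [CommRing C] (φ : A →+* B)
    (hφ : φ.Flat) (ψ : B →+* C) (hψ : Function.Surjective ψ) (hψφ : (ψ.comp φ).Flat)
    (p : Ideal A) (J : Ideal B) (hJ : RingHom.ker ψ = J) :
    IntMult.chi B (B ⧸ p.map φ) (B ⧸ J) =
      ((Module.length C (C ⧸ p.map (ψ.comp φ))).toNat : ℤ) := by
  subst hJ
  algebraize [φ]
  have e : (B ⧸ RingHom.ker ψ) ≃+* C := RingHom.quotientKerEquivOfSurjective hψ
  have h1 : (((RingHom.quotientKerEquivOfSurjective hψ).symm.toRingHom).comp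
      (ψ.comp φ)).Flat :=
    RingHom.Flat.comp hψφ (RingHom.Flat.of_bijective
      (RingHom.quotientKerEquivOfSurjective hψ).symm.bijective)
  have h2 : Module.Flat A (B ⧸ RingHom.ker ψ) := by
    have h3 : ((RingHom.quotientKerEquivOfSurjective hψ).symm.toRingHom).comp
      (ψ.comp φ) = algebraMap A (B ⧸ RingHom.ker ψ) := by
      ext a
      apply (RingHom.quotientKerEquivOfSurjective hψ).injective
      change (RingHom.quotientKerEquivOfSurjective hψ)
        ((RingHom.quotientKerEquivOfSurjective hψ).symm (ψ (φ a))) = _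
      rw [RingEquiv.apply_symm_apply]
      rfl
    rw [h3] at h1
    exact RingHom.flat_algebraMap_iff.1 h1
  have h3 := LocFlat.chi_flat (A := A) (RingHom.ker ψ) p
  have h4 : Module.length B (B ⧸ (RingHom.ker ψ ⊔ p.map (algebraMap A B))) =
      Module.length C (C ⧸ p.map (ψ.comp φ)) := by
    rw [CycB.FiberStalk.length_quotient_eq
      ((Ideal.Quotient.mk (p.map (ψ.comp φ))).comp ψ)
      (Ideal.Quotient.mk_surjective.comp hψ) _ ?_,
      CycB.FiberStalk.length_quotient_eq (Ideal.Quotient.mk (p.map (ψ.comp φ)))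
      Ideal.Quotient.mk_surjective _ (Ideal.mk_ker)]
    rw [← RingHom.comap_ker, Ideal.mk_ker, ← Ideal.map_map, Ideal.comap_map_of_surjective ψ hψ,
      sup_comm]
    rfl
  rw [← h4]
  exact h3

variable {X W Z : Scheme.{u}}

theorem ker_specMap_eq [IsIntegral X] (g : X ⟶ W) (x : X)
    (hv : g (genericPoint X) ⤳ g x) :
    RingHom.ker (g.stalkMap x).hom = RingHom.ker (Cyc.specMap (g x) (g (genericPoint X)) hv) := by
  rw [← CycA.ProdPoint.comap_ker_specMap g (CycB.PushFinite.genericPoint_specializes' rfl x)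
      hv, (RingHom.injective_iff_ker_eq_bot _).1 (CycB.PushFinite.specMap_injective rfl _)]
  rfl

theorem chi_graph [IsIntegral X] (g : X ⟶ W) [IsClosedImmersion g] (p : W ⟶ Z) [Flat p]
    [Flat (g ≫ p)] (x : X) {w : Z} (hw : w ⤳ p (g x)) (hw' : w ⤳ (g ≫ p) x)
    (hv : g (genericPoint X) ⤳ g x) :
    IntMult.chi (W.presheaf.stalk (g x)) (W.presheaf.stalk (g x) ⧸ fibIdeal p (g x) hw)
      (W.presheaf.stalk (g x) ⧸ RingHom.ker (Cyc.specMap (g x) (g (genericPoint X)) hv)) =
    ((Module.length (X.presheaf.stalk x)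
      (X.presheaf.stalk x ⧸ fibIdeal (g ≫ p) x hw')).toNat : ℤ) := by
  have h1 : ((g ≫ p).stalkMap x).hom = (g.stalkMap x).hom.comp (p.stalkMap (g x)).hom := by
    rw [Scheme.Hom.stalkMap_comp]
    rfl
  have h2 := chi_surj (p.stalkMap (g x)).hom (Flat.stalkMap p (g x)) (g.stalkMap x).hom
    (g.stalkMap_surjective x) (by rw [← h1]; exact Flat.stalkMap (g ≫ p) x)
    (RingHom.ker (Cyc.specMap (p (g x)) w hw)) _ (ker_specMap_eq g x hv)
  rw [fibIdeal, h2, fibIdeal, h1]
  rfl

end K304.GraphLem
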