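import Groth.Agent.IntMult.K304.GraphLem
import Groth.Agent.CycA.SetupField

/-!
# `[X] · p^* c = g_* (p ∘ g)^* c` for a closed immersion `g : X → W` and `p`, `p ∘ g` flat
-/

set_option autoImplicit false
universe u
open CategoryTheory CategoryTheory.Limits AlgebraicGeometry

namespace K304.GraphLem

open Groth.Agent Groth.Agent.CycB.RelDim Groth.Agent.CycB.LocQuot Groth.Agent.CycA.PFFib
  Groth.Agent.CycB.PFAssemble Groth.Agent.CycA.MovRatZ

variable {X W Z : Scheme.{u}}

/-- The dimension function of a closed subscheme. -/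
theorem delta_closedImmersion (g : X ⟶ W) [IsClosedImmersion g] {δX : X → ℤ} {δW : W → ℤ}
    (hg : Cyc.DeltaCompat g δX δW) (x : X) : δX x = δW (g x) := by
  obtain ⟨n, hn, hn'⟩ := (deltaCompat_iff.mp hg) x
  rw [rtd_eq_zero_of_isPreimmersion g x] at hn
  have : n = 0 := by exact_mod_cast hn.symm
  omega

theorem fibIdeal_self (f : X ⟶ Z) (x : X) {w : Z} (h : w = f x) (hw : w ⤳ f x) :
    fibIdeal f x hw = (IsLocalRing.maximalIdeal (Z.presheaf.stalk (f x))).map
      (f.stalkMap x).hom := by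
  subst h
  rw [fibIdeal, ker_refl]

variable {K : Type u} [Field K] [IsAlgClosed K] [IsIntegral X] [IsIntegral W] [IsIntegral Z]
  (gW : W ⟶ Spec (CommRingCat.of K)) [Smooth gW] [IsSeparated gW]
  {δX : X → ℤ} {δW : W → ℤ} {δZ : Z → ℤ}
  (hW : Cyc.DeltaCompat gW δW (fun _ => 0)) (hsX : Cyc.IsSetup X δX) (hsZ : Cyc.IsSetup Z δZ)
  (g : X ⟶ W) [IsClosedImmersion g] (p : W ⟶ Z) [Flat p] [LocallyOfFiniteType p]
  [Flat (g ≫ p)] [LocallyOfFiniteType (g ≫ p)]
  (hg : Cyc.DeltaCompat g δX δW) (hp : Cyc.DeltaCompat p δW δZ)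

include hsX hsZ hg in
theorem intersectProperly {e : ℕ} (he : δW (genericPoint W) = δZ (genericPoint Z) + e)
    (c : Z → ℤ) :
    IntMult.IntersectProperly δW (δW (genericPoint W))
      (Set.indicator {g (genericPoint X)} 1) (Cyc.pullFun p δW δZ e c) := by
  intro ξ η ζ hξ hη h1 h2
  rw [indicator_ne_zero_iff] at hξ
  subst hξ
  obtain ⟨x, rfl⟩ : ζ ∈ Set.range g :=
    h1.mem_closed g.isClosedEmbedding.isClosed_range ⟨_, rfl⟩
  have h3 := FlatRel.delta_le_of_flat (g ≫ p) hsX hsZ x
  have h4 : δZ (p (g x)) ≤ δZ (p η) := le_of_specializes hsZ.2.2 (h2.map p.continuous)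
  have h5 : δW η = δZ (p η) + e := by
    rw [pullFun_eq] at hη
    exact LL_ne_zero (right_ne_zero_of_mul hη)
  have h6 := delta_closedImmersion g hg x
  have h7 := delta_closedImmersion g hg (genericPoint X)
  have h8 : (g ≫ p) x = p (g x) := rfl
  rw [h8] at h3
  omega

include hW hsX hsZ hg hp in
theorem interProd_apply_of_mem {e : ℕ}
    (he : δW (genericPoint W) = δZ (genericPoint Z) + e) {c : Z → ℤ}
    (hc : (Function.support (Cyc.pullFun p δW δZ e c)).Finite)
    (hc' : (Function.support c).Finite) (x : X) :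
    IntMult.interProd δW (δW (genericPoint W))
      (Set.indicator {g (genericPoint X)} 1) (Cyc.pullFun p δW δZ e c) (g x) =
    Cyc.pullFun (g ≫ p) δX δZ (δX (genericPoint X) - δZ (genericPoint Z)) c x := by
  classical
  have hsW := CycA.SetupField.isSetup_of_field _ hW
  have hrel : Cyc.HasRelDim p e := FlatRel.hasRelDim_of_flat p hsW hsZ hp he
  have hδ := delta_closedImmersion g hg
  have hv : g (genericPoint X) ⤳ g x := (genericPoint_specializes x).map g.continuous
  rw [PullProd.interProd_pull_apply p δW δZ _ e hc (g x) {g (genericPoint X)} hc'.toFinset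
    (fun ξ h _ => by rw [indicator_ne_zero_iff] at h; simpa using h)
    (fun η h _ => hc'.mem_toFinset.2 h), Finset.sum_singleton]
  rw [Set.indicator_of_mem (Set.mem_singleton _)]
  simp only [Pi.one_apply, one_mul]
  have hle := FlatRel.delta_le_of_flat (g ≫ p) hsX hsZ x
  have h8 : (g ≫ p) x = p (g x) := rfl
  rw [h8] at hle
  have key : ∀ η : Z, η ≠ p (g x) →
      G p δW δZ (δW (genericPoint W)) e (g (genericPoint X)) η (g x) = 0 := by
    intro η hη
    by_contra h
    obtain ⟨-, h1, h2⟩ := G_ne_zero h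
    have h3 : δZ (p (g x)) ≠ δZ η := fun h3 => hη (eq_of_specializes_of_eq hsZ.2.2 h1 h3)
    have h4 := le_of_specializes hsZ.2.2 h1
    have h6 := hδ x
    have h7 := hδ (genericPoint X)
    omega
  rw [Finset.sum_eq_single (p (g x)) (fun η _ h => by rw [key η h, mul_zero])
    (fun h => by rw [show c (p (g x)) = 0 by simpa using h, zero_mul])]
  rw [Cyc.pullFun]
  change _ = if δX x = δZ (p (g x)) + (δX (genericPoint X) - δZ (genericPoint Z)) then _ else _
  have h6 := hδ x
  have h7 := hδ (genericPoint X)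
  split_ifs with hd
  · change c (p (g x)) * _ = c (p (g x)) * _
    congr 1
    rw [PullProd.G_eq gW hW hrel hp hv (specializes_refl (p (g x))) ?_ (by omega)]
    · refine (chi_graph g p x (specializes_refl _) (specializes_refl ((g ≫ p) x)) hv).trans ?_
      exact congrArg (fun I => ((Module.length (X.presheaf.stalk x)
        (X.presheaf.stalk x ⧸ I)).toNat : ℤ)) (fibIdeal_self (g ≫ p) x rfl (specializes_refl _))
    intro z' h1 h2 h3
    obtain ⟨x', rfl⟩ : z' ∈ Set.range g :=
      h1.mem_closed g.isClosedEmbedding.isClosed_range ⟨_, rfl⟩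
    have h4 : p (g x') = p (g x) := ((h3.map p.continuous).antisymm h2).eq
    have h5 := FlatRel.delta_le_of_flat (g ≫ p) hsX hsZ x'
    have h9 : (g ≫ p) x' = p (g x') := rfl
    rw [h9, h4] at h5
    have h10 := hδ x'
    refine eq_of_specializes_of_eq hsW.2.2 h3 ?_
    have h11 := le_of_specializes hsW.2.2 h3
    omega
  · by_contra h
    obtain ⟨-, -, h2⟩ := G_ne_zero (right_ne_zero_of_mul h)
    omega

omit gW K [Field K] [IsAlgClosed K] [IsIntegral W] [IsIntegral Z] [Smooth gW] [IsSeparated gW]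
  p [Flat p] [LocallyOfFiniteType p] [Flat (g ≫ p)] [LocallyOfFiniteType (g ≫ p)] in
/-- An intersection product with `[X]` is supported on `X`. -/
theorem interProd_apply_of_notMem (n : ℤ) (c : W → ℤ) {ζ : W} (hζ : ζ ∉ Set.range g) :
    IntMult.interProd δW n (Set.indicator {g (genericPoint X)} 1) c ζ = 0 := by
  by_contra h
  obtain ⟨ξ, η, h1, -, h2, -⟩ := interProd_ne_zero _ _ h
  rw [indicator_ne_zero_iff] at h1
  subst h1
  exact hζ (h2.mem_closed g.isClosedEmbedding.isClosed_range ⟨_, rfl⟩)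

end K304.GraphLem
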