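import Groth.Agent.CycA.TorRestr
import Groth.Agent.CycA.IntCore
import Mathlib.RingTheory.TensorProduct.Quotient

/-!
# Intersection multiplicity of an extended ideal with a quotient flat over the base
-/

set_option autoImplicit false
universe u
open TensorProduct

namespace K304.LocFlat

open Groth.Agent.CycA

variable {A B : Type u} [CommRing A] [CommRing B] [Algebra A B] [Module.Flat A B]

/-- Let `B` be flat over `A` and `J` an ideal of `B` such that `B/J` is flat over `A`. Then
`Tor^B_i(B/J, B/pB) = 0` for `i > 0`. -/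
theorem tor_vanish (J : Ideal B) [Module.Flat A (B ⧸ J)] (p : Ideal A) (i : ℕ) (hi : 0 < i) :
    Subsingleton (DRing.Tor B i (B ⧸ J) (B ⧸ p.map (algebraMap A B))) := by
  obtain ⟨n, rfl⟩ := Nat.exists_eq_succ_of_ne_zero hi.ne'
  have h := TorRestr.subsingleton_of_flat (A := A) B (B ⧸ J) n (A ⧸ p)
  have e : (B ⊗[A] (A ⧸ p)) ≃ₗ[B] (B ⧸ p.map (algebraMap A B)) :=
    (Algebra.TensorProduct.quotIdealMapEquivTensorQuot B p).symm.toLinearEquiv
  exact (TorBasic.congrR (n + 1) (B ⧸ J) e).symm.toEquiv.subsingleton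

/-- The intersection multiplicity is the length of the tensor product. -/
theorem chi_flat (J : Ideal B) [Module.Flat A (B ⧸ J)] (p : Ideal A) :
    IntMult.chi B (B ⧸ p.map (algebraMap A B)) (B ⧸ J) =
      ((Module.length B (B ⧸ (J ⊔ p.map (algebraMap A B)))).toNat : ℤ) := by
  rw [IntCore.chi_comm]
  exact IntCore.chi_quot_eq_of_vanish _ _ (tor_vanish J p)

end K304.LocFlat
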