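import Groth.Agent.IntMult.K304.NPVChow

/-!
# The graph pullback of the statements
-/

set_option autoImplicit false
universe u
open CategoryTheory CategoryTheory.Limits AlgebraicGeometry TopologicalSpace

namespace K304.NPV

open Groth.Agent

variable {K : Type u} [Field K] [IsAlgClosed K] {X Y W : NPV K}
  (g : X.X ⟶ W.X) (hg : g ≫ W.f = X.f) [IsClosedImmersion g]
  (p : W.X ⟶ X.X) (hp : p ≫ X.f = W.f)
  (q : W.X ⟶ Y.X) (hq : q ≫ Y.f = W.f) [Flat q]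

include hg hp hq in
theorem gp_congr {s : ℤ} {β β' : Y.X → ℤ} (h : Y.Eqv s β β') (hβ' : β' ∈ Y.Z s) :
    X.Eqv (X.n + (s + (W.n - Y.n)) - W.n) (gp g p q β) (gp g p q β') :=
  (mul_congr (Eqv.refl _) (h.pull q hq) (Γ_mem_Z g hg) (pull_mem_Z q hq hβ')).push p hp
    (mul_mem_Z (Γ_mem_Z g hg) (pull_mem_Z q hq hβ'))

include hg hp hq in
theorem map_eqv_gp {dX dY : ℤ} (hnX : X.n = dX) (hnY : Y.n = dY) (hnW : W.n = dX + dY)
    {m : (r s : ℤ) → ChowOps.CH W.X W.δ r → ChowOps.CH W.X W.δ s →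
      ChowOps.CH W.X W.δ (r + s - (dX + dY))} (hm : ChowOps.IsChowMul W.X W.δ (dX + dY) m)
    {k : ℤ} {σ : Y.X → ℤ} (hσ : σ ∈ Y.Z k) {γ : AlgebraicCycle W.X ℤ}
    (hγk : γ ∈ Cyc.Zk W.X W.δ dX) (hγ : ⇑γ = Γ g) {αW : AlgebraicCycle W.X ℤ}
    (hαWk : αW ∈ Cyc.Zk W.X W.δ (k + dX)) (hαW : ⇑αW = Cyc.pullFun q W.δ Y.δ dX σ)
    {ζ : AlgebraicCycle W.X ℤ} (hζk : ζ ∈ Cyc.Zk W.X W.δ (dX + (k + dX) - (dX + dY)))
    (hζ : ChowOps.cl ζ hζk = m dX (k + dX) (ChowOps.cl γ hγk) (ChowOps.cl αW hαWk)) :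
    X.Eqv (dX + (k + dX) - (dX + dY)) (push p ⇑ζ) (gp g p q σ) := by
  subst hnX hnY
  have h1 := eqv_mul_of_isChowMul hnW hm hγk hαWk hζk hζ
  have e2 : Cyc.pullFun q W.δ Y.δ X.n σ = pull q σ := by
    unfold pull
    rw [hnW, add_sub_cancel_right]
  rw [hγ, hαW, e2] at h1
  refine h1.push p hp ?_
  have := mul_mem_Z (Γ_mem_Z g hg) (pull_mem_Z q hq hσ)
  exact mem_Z_cast this (by rw [hnW]; ring)

end K304.NPV
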