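import Groth.Agent.IntMult.K304.NPVPush

/-!
# Pullback through the graph
-/

set_option autoImplicit false
universe u
open CategoryTheory CategoryTheory.Limits AlgebraicGeometry TopologicalSpace

namespace K304.NPV

open Groth.Agent Groth.Agent.CycA.MovRatZ K304.PushFun

variable {K : Type u} [Field K] [IsAlgClosed K] {X Y W : NPV K}

omit [IsAlgClosed K] in
theorem pull_id (c : X.X → ℤ) : pull (𝟙 X.X) c = c := by
  funext x
  rw [pull, sub_self, Cyc.pullFun]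
  change (if X.δ x = X.δ x + 0 then c x * _ else _) = _
  rw [if_pos (by ring)]
  have h1 : Module.length (X.X.presheaf.stalk x) (X.X.presheaf.stalk x ⧸
      Ideal.map (Scheme.Hom.stalkMap (𝟙 X.X) x).hom
        (IsLocalRing.maximalIdeal (X.X.presheaf.stalk ((𝟙 X.X : X.X ⟶ X.X) x)))) = 1 := by
    rw [IsLocalRing.map_maximalIdeal_of_surjective _
      ((𝟙 X.X : X.X ⟶ X.X).stalkMap_surjective x), Module.length_eq_one_iff]
    exact isSimpleModule_iff_isCoatom.2 (Ideal.isMaximal_def.1 inferInstance)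
  rw [h1]
  simp

variable (g : X.X ⟶ W.X) (hg : g ≫ W.f = X.f) [IsClosedImmersion g]
  (p : W.X ⟶ X.X) (hp : p ≫ X.f = W.f) [Flat p] (hgp : g ≫ p = 𝟙 X.X)

/-- The class of the image of `g`. -/
noncomputable def Γ : W.X → ℤ := W.pt (g (genericPoint X.X))

include hg in
omit [IsAlgClosed K] in
theorem Γ_mem_Z : Γ g ∈ W.Z X.n := by
  have := pt_mem_Z (V := W) (g (genericPoint X.X))
  rwa [← delta_closed g hg] at this

include hg hp hgp in
/-- `Γ · p^* c ~ g_* c`. -/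
theorem mul_Γ_pull {k : ℤ} {c : X.X → ℤ} (hc : c ∈ X.Z k) :
    W.Eqv k (W.mul X.n (Γ g) (pull p c)) (push g c) := by
  have : Flat (g ≫ p) := by rw [hgp]; infer_instance
  obtain ⟨h1, h2⟩ := ip_pt_pull g hg p hp hc
  have h3 := mul_eqv_ip (Γ_mem_Z g hg) (pull_mem_Z p hp hc) h1
  have h4 : W.ip (Γ g) (pull p c) = push g c := by
    refine h2.trans ?_
    rw [hgp, pull_id]
  rw [h4] at h3
  exact h3.cast (by ring)

include hg in
/-- `Γ · B ~ g_* c` for some `c`. -/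
theorem exists_mul_Γ {s : ℤ} {B : W.X → ℤ} (hB : B ∈ W.Z s) :
    ∃ c ∈ X.Z (X.n + s - W.n), W.Eqv (X.n + s - W.n) (W.mul X.n (Γ g) B) (push g c) := by
  obtain ⟨b, hb, hb'⟩ := exists_meet hB (Γ_mem_Z g hg)
  have h1 := mul_spec (Γ_mem_Z g hg) hB (Eqv.refl _) hb hb'.symm
  have h2 := ip_mem_Z (Γ_mem_Z g hg) (hb.mem_Z hB) hb'.symm
  obtain ⟨c, hc, hc'⟩ := exists_eq_push g hg h2 (by
    intro y hy
    by_contra h
    exact hy (GraphLem.interProd_apply_of_notMem g W.n _ h))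
  exact ⟨c, hc, h1.trans (Eqv.of_eq hc')⟩

include hg hp hgp in
omit [IsAlgClosed K] [IsClosedImmersion g] [Flat p] in
theorem push_push_g {k : ℤ} {c : X.X → ℤ} (hc : c ∈ X.Z k) : push p (push g c) = c := by
  rw [push_push g hg p hp hc, hgp, push_id hc]

variable (q : W.X ⟶ Y.X) (hq : q ≫ Y.f = W.f) [Flat q]

/-- The pullback through the graph. -/
noncomputable def gp (β : Y.X → ℤ) : X.X → ℤ := push p (W.mul X.n (Γ g) (pull q β))

include hg hq in
theorem gp_mem_Z {s : ℤ} {β : Y.X → ℤ} (hβ : β ∈ Y.Z s) :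
    gp g p q β ∈ X.Z (X.n + (s + (W.n - Y.n)) - W.n) :=
  push_mem_Z p (mul_mem_Z (Γ_mem_Z g hg) (pull_mem_Z q hq hβ))

include hg hp hgp hq in
theorem exists_gp {s : ℤ} {β : Y.X → ℤ} (hβ : β ∈ Y.Z s) :
    ∃ c ∈ X.Z (X.n + s - Y.n),
      W.Eqv (X.n + s - Y.n) (W.mul X.n (Γ g) (pull q β)) (push g c) ∧
      X.Eqv (X.n + s - Y.n) (gp g p q β) c := by
  obtain ⟨c, hc, hc'⟩ := exists_mul_Γ g hg (pull_mem_Z q hq hβ)
  have e : X.n + (s + (W.n - Y.n)) - W.n = X.n + s - Y.n := by ring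
  rw [e] at hc hc'
  refine ⟨c, hc, hc', ?_⟩
  have h1 := hc'.push p hp (push_mem_Z g hc)
  rw [push_push_g g hg p hp hgp hc] at h1
  exact h1

include hg hp hgp hq in
/-- **S12676**: for `f = q ∘ g` flat the graph pullback is the flat pullback. -/
theorem gp_eqv_pull [Flat (g ≫ q)] {s : ℤ} {β : Y.X → ℤ} (hβ : β ∈ Y.Z s) :
    X.Eqv (s + (X.n - Y.n)) (gp g p q β) (pull (g ≫ q) β) := by
  obtain ⟨h1, h2⟩ := ip_pt_pull g hg q hq hβ
  have h3 := mul_eqv_ip (Γ_mem_Z g hg) (pull_mem_Z q hq hβ) h1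
  have h5 : (g ≫ q) ≫ Y.f = X.f := by rw [Category.assoc, hq, hg]
  have h6 := pull_mem_Z (g ≫ q) h5 hβ
  have h4 : W.ip (Γ g) (pull q β) = push g (pull (g ≫ q) β) := h2
  rw [h4] at h3
  have h7 := (h3.cast (show _ = s + (X.n - Y.n) by ring)).push p hp (push_mem_Z g h6)
  rw [push_push_g g hg p hp hgp h6] at h7
  exact h7

omit [IsAlgClosed K] in
theorem Eqv.refl' {k : ℤ} {a : X.X → ℤ} : X.Eqv k a a := Eqv.refl a

end K304.NPV
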