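import Groth.Agent.IntMult.K304.NPV
import Groth.Agent.IntMult.K303.MovingLemma
import Groth.Agent.CycA.MovMain

/-!
# The moving lemma on a nonsingular projective variety
-/

set_option autoImplicit false
universe u
open CategoryTheory CategoryTheory.Limits AlgebraicGeometry

namespace K304.NPV

open Groth.Agent Groth.Agent.CycA.MovRatZ

theorem exists_move_aux {K : Type u} [Field K] [IsAlgClosed K] (V : NPV K) (r : ℤ) {α : V.X → ℤ}
    (hα : α ∈ V.Z r) {T : Set V.X} (hT : T.Finite) : ∃ α' : V.X → ℤ, α' - α ∈ V.R r ∧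
      ∀ x, α' x ≠ 0 → ∀ τ ∈ T, ∀ ζ, x ⤳ ζ → τ ⤳ ζ → V.δ ζ ≤ V.δ x + V.δ τ - V.n := by
  let ι' : V.X ⟶ Proj (MvPolynomial.homogeneousSubmodule (Fin (V.N + 1)) K) := V.ι
  have hci : IsClosedImmersion ι' := V.hι
  have hι' : V.f = ι' ≫ Groth.Agent.VarietyB.ProjStd.toSpec (Fin (V.N + 1)) K := V.w.symm
  have hM : ∀ δP : ↥(CohB1.ProjSpaceOver 1 V.X) → ℤ,
      Cyc.DeltaCompat (CohB1.ProjSpaceOver.toBase 1 V.X) δP V.δ → ∀ η : V.X, V.δ η < V.n →
      ∀ T : Set V.X, T.Finite → CycA.MovLemmaM.Moves V.f V.δ V.n δP η T := by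
    have h1 := V.smooth
    have h2 := V.sep
    have h3 := V.qc
    have h4 := V.hδ
    rw [hι'] at h1 h2 h3 h4 ⊢
    exact fun δP hP η hη T hT => CycA.MovMain.moves (I := Fin (V.N + 1)) ι' V.δ V.setup h4 V.n rfl
      δP hP η hη T hT
  obtain ⟨φ, h1, h2, h3⟩ := K303.MovingLemma.exists_movable V.f V.δ V.setup V.n rfl hM r T hT α
    hα.1 hα.2
  refine ⟨φ, h3, fun x hx τ hτ ζ hxζ hτζ => ?_⟩
  obtain ⟨h4, h5⟩ := h2 x hx
  rw [h4]
  exact h5 τ hτ ζ hxζ hτζ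

end K304.NPV
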