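import Groth.Agent.IntMult.K304.NPVMove
import Groth.Agent.S1948

/-!
# The Chow product on a nonsingular projective variety
-/

set_option autoImplicit false
universe u
open CategoryTheory CategoryTheory.Limits AlgebraicGeometry TopologicalSpace

namespace K304.NPV

open Groth.Agent Groth.Agent.CycA.MovRatZ K304.PushFun

variable {K : Type u} [Field K] [IsAlgClosed K] {V W U : NPV K}

instance : NoetherianSpace V.X := by
  have : IsNoetherian V.X := {}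
  infer_instance

/-- The intersection product of properly meeting cycles. -/
noncomputable def ip (V : NPV K) (α β : V.X → ℤ) : V.X → ℤ := IntMult.interProd V.δ V.n α β

/-- Proper intersection. -/
def Meet (V : NPV K) (α β : V.X → ℤ) : Prop := IntMult.IntersectProperly V.δ V.n α β

/-- The components of `α` meet the points of `T` properly. -/
def MeetT (V : NPV K) (α : V.X → ℤ) (T : Set V.X) : Prop :=
  ∀ x, α x ≠ 0 → ∀ τ ∈ T, ∀ ζ, x ⤳ ζ → τ ⤳ ζ → V.δ ζ ≤ V.δ x + V.δ τ - V.n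

theorem Meet.symm {α β : V.X → ℤ} (h : V.Meet α β) : V.Meet β α :=
  intersectProperly_comm V.δ V.n h

theorem ip_comm (α β : V.X → ℤ) : V.ip α β = V.ip β α := interProd_comm _ _ _ _

theorem MeetT.meet {α β : V.X → ℤ} {T : Set V.X} (h : V.MeetT α T)
    (hT : Function.support β ⊆ T) : V.Meet α β :=
  fun ξ η ζ h1 h2 h3 h4 => h ξ h1 η (hT h2) ζ h3 h4

theorem exists_move {r : ℤ} {α : V.X → ℤ} (hα : α ∈ V.Z r) {T : Set V.X} (hT : T.Finite) :
    ∃ α' : V.X → ℤ, V.Eqv r α' α ∧ V.MeetT α' T :=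
  exists_move_aux V r hα hT

theorem ip_mem_Z {r s : ℤ} {α β : V.X → ℤ} (hα : α ∈ V.Z r) (hβ : β ∈ V.Z s) (h : V.Meet α β) :
    V.ip α β ∈ V.Z (r + s - V.n) := by
  refine ⟨CycA.MovFin.finite_support_interProd V.dimFun V.n hα.1 hβ.1 h, fun x hx => ?_⟩
  obtain ⟨ξ, η, h1, h2, -, -, h3⟩ := interProd_ne_zero _ _ hx
  rw [← h3, hα.2 _ h1, hβ.2 _ h2]

/-- Well-definedness (S1948). -/
theorem ip_mem_R {r s : ℤ} {α β : V.X → ℤ} (hα : α ∈ V.R r) (hβ : β ∈ V.Z s) (h : V.Meet α β) :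
    V.ip α β ∈ V.R (r + s - V.n) := by
  have hα' := V.R_le_Z r hα
  obtain ⟨a, rfl, ha⟩ := exists_cycle_of_mem_ratZ V.dimFun hα
  obtain ⟨b, rfl⟩ := exists_cycle_of_finite_support hβ.1
  obtain ⟨c, hc⟩ := exists_cycle_of_finite_support (ip_mem_Z hα' hβ h).1
  have h1 := S1948.result K V.X V.f V.δ V.setup V.hδ V.n rfl V.N V.ι V.w r s a b
    (fun x hx => by_contra fun h1 => hx (hα'.2 x h1))
    (fun x hx => by_contra fun h1 => hx (hβ.2 x h1)) h ha c hc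
  have h2 := mem_ratZ_of_ratEquivZero h1
  rw [hc] at h2
  exact h2

theorem Meet.sub_left {α α' β : V.X → ℤ} (h : V.Meet α β) (h' : V.Meet α' β) :
    V.Meet (α - α') β := by
  intro ξ η ζ h1 h2 h3 h4
  by_cases h5 : α ξ = 0
  · refine h' ξ η ζ (fun h6 => h1 ?_) h2 h3 h4
    rw [Pi.sub_apply, h5, h6, sub_zero]
  · exact h ξ η ζ h5 h2 h3 h4

theorem ip_congr_left {r s : ℤ} {α α' β : V.X → ℤ} (hα : V.Eqv r α α') (hα' : α' ∈ V.Z r)
    (hβ : β ∈ V.Z s) (h : V.Meet α β) (h' : V.Meet α' β) :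
    V.Eqv (r + s - V.n) (V.ip α β) (V.ip α' β) := by
  have h1 := ip_mem_R hα hβ (h.sub_left h')
  unfold ip at h1
  rw [interProd_sub_left _ _ (hα.mem_Z hα').1 hα'.1 hβ.1] at h1
  exact h1

theorem ip_congr_right {r s : ℤ} {α β β' : V.X → ℤ} (hβ : V.Eqv s β β') (hβ' : β' ∈ V.Z s)
    (hα : α ∈ V.Z r) (h : V.Meet α β) (h' : V.Meet α β') :
    V.Eqv (r + s - V.n) (V.ip α β) (V.ip α β') := by
  rw [ip_comm α β, ip_comm α β', add_comm r s]
  exact ip_congr_left hβ hβ' hα h.symm h'.symm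

/-- The class of the product does not depend on the representatives. -/
theorem ip_congr {r s : ℤ} {α α' β β' : V.X → ℤ} (hα : V.Eqv r α α') (hβ : V.Eqv s β β')
    (hα' : α' ∈ V.Z r) (hβ' : β' ∈ V.Z s) (h : V.Meet α β) (h' : V.Meet α' β') :
    V.Eqv (r + s - V.n) (V.ip α β) (V.ip α' β') := by
  have hβ0 := hβ.mem_Z hβ'
  obtain ⟨a, ha, ha'⟩ := exists_move hα' (T := Function.support β ∪ Function.support β')
    (hβ0.1.union hβ'.1)
  have h1 : V.Meet a β := ha'.meet Set.subset_union_left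
  have h2 : V.Meet a β' := ha'.meet Set.subset_union_right
  have haZ := ha.mem_Z hα'
  refine (ip_congr_left (hα.trans ha.symm) haZ hβ0 h h1).trans ?_
  refine (ip_congr_right hβ hβ' haZ h1 h2).trans ?_
  exact ip_congr_left ha hα' hβ' h2 h'

open Classical in
/-- A representative of the product of the classes of `α` and `β`. -/
noncomputable def mul (V : NPV K) (r : ℤ) (α β : V.X → ℤ) : V.X → ℤ :=
  if h : ∃ α' : V.X → ℤ, V.Eqv r α' α ∧ V.Meet α' β then V.ip h.choose β else 0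

theorem mul_spec {r s : ℤ} {α β α' β' : V.X → ℤ} (hα : α ∈ V.Z r) (hβ : β ∈ V.Z s)
    (hα' : V.Eqv r α' α) (hβ' : V.Eqv s β' β) (h : V.Meet α' β') :
    V.Eqv (r + s - V.n) (V.mul r α β) (V.ip α' β') := by
  have h1 : ∃ α' : V.X → ℤ, V.Eqv r α' α ∧ V.Meet α' β := by
    obtain ⟨a, ha, ha'⟩ := exists_move hα (T := Function.support β) hβ.1
    exact ⟨a, ha, ha'.meet subset_rfl⟩
  rw [mul, dif_pos h1]
  obtain ⟨h2, h3⟩ := h1.choose_spec
  exact ip_congr (h2.trans hα'.symm) hβ'.symm (hα'.mem_Z hα) (hβ'.mem_Z hβ) h3 h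

theorem mul_eqv_ip {r s : ℤ} {α β : V.X → ℤ} (hα : α ∈ V.Z r) (hβ : β ∈ V.Z s)
    (h : V.Meet α β) : V.Eqv (r + s - V.n) (V.mul r α β) (V.ip α β) :=
  mul_spec hα hβ (Eqv.refl _) (Eqv.refl _) h

theorem exists_meet {r s : ℤ} {α β : V.X → ℤ} (hα : α ∈ V.Z r) (hβ : β ∈ V.Z s) :
    ∃ α' : V.X → ℤ, V.Eqv r α' α ∧ V.Meet α' β := by
  obtain ⟨a, ha, ha'⟩ := exists_move hα (T := Function.support β) hβ.1
  exact ⟨a, ha, ha'.meet subset_rfl⟩

theorem mul_mem_Z {r s : ℤ} {α β : V.X → ℤ} (hα : α ∈ V.Z r) (hβ : β ∈ V.Z s) :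
    V.mul r α β ∈ V.Z (r + s - V.n) := by
  obtain ⟨a, ha, ha'⟩ := exists_meet hα hβ
  exact (mul_spec hα hβ ha (Eqv.refl _) ha').mem_Z (ip_mem_Z (ha.mem_Z hα) hβ ha')

theorem mul_congr {r s : ℤ} {α α' β β' : V.X → ℤ} (hα : V.Eqv r α α') (hβ : V.Eqv s β β')
    (hα' : α' ∈ V.Z r) (hβ' : β' ∈ V.Z s) :
    V.Eqv (r + s - V.n) (V.mul r α β) (V.mul r α' β') := by
  obtain ⟨a, ha, ha'⟩ := exists_meet hα' hβ'
  exact (mul_spec (hα.mem_Z hα') (hβ.mem_Z hβ') (ha.trans hα.symm) hβ.symm ha').trans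
    (mul_spec hα' hβ' ha (Eqv.refl _) ha').symm

theorem mul_comm' {r s : ℤ} {α β : V.X → ℤ} (hα : α ∈ V.Z r) (hβ : β ∈ V.Z s) :
    V.Eqv (r + s - V.n) (V.mul r α β) (V.mul s β α) := by
  obtain ⟨a, ha, ha'⟩ := exists_meet hα hβ
  refine (mul_spec hα hβ ha (Eqv.refl _) ha').trans ?_
  rw [ip_comm]
  exact ((mul_spec hβ hα (Eqv.refl _) ha ha'.symm).symm).cast (by ring)

/-- The prime cycle of a point. -/
noncomputable def pt (V : NPV K) (x : V.X) : V.X → ℤ := Set.indicator {x} 1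

omit [IsAlgClosed K] in
theorem pt_mem_Z (x : V.X) : V.pt x ∈ V.Z (V.δ x) := by
  refine ⟨finite_support_indicator x, fun y hy => ?_⟩
  unfold pt at hy
  rw [indicator_ne_zero_iff] at hy
  rw [hy]

end K304.NPV
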