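import Groth.Agent.IntMult.K304.NPVMul
import Groth.Agent.S1950
import Groth.Agent.S6451
import Groth.Agent.IntMult.K304.GraphLem2

/-!
# Chow product, pullback and pushforward
-/

set_option autoImplicit false
universe u
open CategoryTheory CategoryTheory.Limits AlgebraicGeometry TopologicalSpace

namespace K304.NPV

open Groth.Agent Groth.Agent.CycA.MovRatZ K304.PushFun

variable {K : Type u} [Field K] [IsAlgClosed K] {V W U : NPV K}

theorem pull_interProd (φ : V.X ⟶ W.X)
    (hφ : φ ≫ W.f = V.f) [Flat φ] {r s : ℤ} {α β : W.X → ℤ} (hα : α ∈ W.Z r) (hβ : β ∈ W.Z s)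
    (h : IntMult.IntersectProperly W.δ W.n α β) :
    IntMult.IntersectProperly V.δ V.n (NPV.pull φ α) (NPV.pull φ β) ∧
      NPV.pull φ (IntMult.interProd W.δ W.n α β) =
        IntMult.interProd V.δ V.n (NPV.pull φ α) (NPV.pull φ β) := by
  obtain ⟨e, he, hrel⟩ := NPV.exists_relDim φ hφ
  obtain ⟨a, rfl⟩ := exists_cycle_of_finite_support hα.1
  obtain ⟨b, rfl⟩ := exists_cycle_of_finite_support hβ.1
  unfold NPV.pull
  rw [← he]
  exact S6451.result K V.X W.X φ V.f W.f hφ V.δ W.δ V.setup W.setup V.hδ W.hδ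
    (NPV.deltaCompat φ hφ) V.n W.n rfl rfl e he hrel r s a b
    (fun x hx => by_contra fun h1 => hx (hα.2 x h1))
    (fun x hx => by_contra fun h1 => hx (hβ.2 x h1)) h

section Flat

variable (φ : V.X ⟶ W.X) (hφ : φ ≫ W.f = V.f) [Flat φ]

include hφ in
/-- Flat pullback is multiplicative. -/
theorem pull_mul {r s : ℤ} {α β : W.X → ℤ} (hα : α ∈ W.Z r) (hβ : β ∈ W.Z s) :
    V.Eqv (r + s - W.n + (V.n - W.n)) (pull φ (W.mul r α β))
      (V.mul (r + (V.n - W.n)) (pull φ α) (pull φ β)) := by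
  obtain ⟨a, ha, ha'⟩ := exists_meet hα hβ
  have haZ := ha.mem_Z hα
  obtain ⟨h1, h2⟩ := pull_interProd φ hφ haZ hβ ha'
  have e1 := (mul_spec hα hβ ha (Eqv.refl _) ha').pull φ hφ
  have e2 := mul_spec (pull_mem_Z φ hφ hα) (pull_mem_Z φ hφ hβ) (ha.pull φ hφ) (Eqv.refl _) h1
  have e3 : pull φ (W.ip a β) = V.ip (pull φ a) (pull φ β) := h2
  rw [e3] at e1
  exact e1.trans (e2.symm.cast (by ring))

include hφ in
/-- The projection formula for a flat morphism. -/
theorem push_mul_pull {r s : ℤ} {α : V.X → ℤ} {β : W.X → ℤ} (hα : α ∈ V.Z r) (hβ : β ∈ W.Z s) :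
    W.Eqv (r + s - W.n) (push φ (V.mul r α (pull φ β))) (W.mul r (push φ α) β) := by
  have hpr := isProper_of φ hφ
  have hβ' := pull_mem_Z φ hφ hβ
  obtain ⟨a, ha, ha'⟩ := exists_meet hα hβ'
  have haZ := ha.mem_Z hα
  obtain ⟨e, he, hrel⟩ := exists_relDim φ hφ
  have hipZ := ip_mem_Z haZ hβ' ha'
  obtain ⟨a', rfl⟩ := exists_cycle_of_finite_support haZ.1
  obtain ⟨b, rfl⟩ := exists_cycle_of_finite_support hβ.1
  obtain ⟨c, hc⟩ := exists_cycle_of_finite_support hipZ.1
  obtain ⟨h1, h2⟩ := S1950.result K V.X W.X φ V.f W.f hφ V.δ W.δ V.setup W.setup V.hδ W.hδ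
    (deltaCompat φ hφ) V.n W.n rfl rfl e he hrel r s a' b
    (fun x hx => by_contra fun h1 => hx (haZ.2 x h1))
    (fun x hx => by_contra fun h1 => hx (hβ.2 x h1))
    (by rw [he]; exact ha') c (by rw [he]; exact hc)
  have h1' : W.Meet (push φ ⇑a') ⇑b := h1
  have h2' : W.ip (push φ ⇑a') ⇑b = push φ ⇑c := h2
  rw [hc] at h2'
  have e1 := (mul_spec hα hβ' ha (Eqv.refl _) ha').cast
    (show _ = r + s - W.n by ring)
  have e2 := e1.push φ hφ (mem_Z_cast hipZ (by ring))
  have e3 := mul_spec (push_mem_Z φ hα) hβ (ha.push φ hφ hα) (Eqv.refl _) h1'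
  rw [h2'] at e3
  exact e2.trans e3.symm

end Flat

section Closed

variable (g : V.X ⟶ W.X) (hg : g ≫ W.f = V.f) [IsClosedImmersion g]

include hg in
omit [IsAlgClosed K] in
theorem delta_closed (x : V.X) : V.δ x = W.δ (g x) :=
  GraphLem.delta_closedImmersion g (deltaCompat g hg) x

include hg in
omit [IsAlgClosed K] in
theorem push_apply (α : V.X → ℤ) (x : V.X) : push g α (g x) = α x :=
  pushFun_apply_of_isPreimmersion g α x (delta_closed g hg x)

include hg in
omit [IsAlgClosed K] in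
/-- A cycle supported on the image of a closed immersion is a pushforward. -/
theorem exists_eq_push {k : ℤ} {φ : W.X → ℤ} (h : φ ∈ W.Z k)
    (hφ : ∀ y, φ y ≠ 0 → y ∈ Set.range g) : ∃ c ∈ V.Z k, φ = push g c := by
  refine ⟨fun x => φ (g x), ⟨?_, fun x hx => ?_⟩, eq_pushFun_comp g (delta_closed g hg) hφ⟩
  · exact h.1.preimage g.isClosedEmbedding.injective.injOn
  · rw [delta_closed g hg]
    exact h.2 _ hx

include hg in
/-- **The graph lemma.** -/
theorem ip_pt_pull (p : W.X ⟶ U.X) (hp : p ≫ U.f = W.f) [Flat p] [Flat (g ≫ p)] {k : ℤ}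
    {c : U.X → ℤ} (hc : c ∈ U.Z k) :
    W.Meet (W.pt (g (genericPoint V.X))) (pull p c) ∧
      W.ip (W.pt (g (genericPoint V.X))) (pull p c) = push g (pull (g ≫ p) c) := by
  have hpp := isProper_of p hp
  have hgp : (g ≫ p) ≫ U.f = V.f := by rw [Category.assoc, hp, hg]
  have hpg := isProper_of (g ≫ p) hgp
  obtain ⟨e, he, hrel⟩ := exists_relDim p hp
  have hpull := pull_mem_Z p hp hc
  have he' : W.δ (genericPoint W.X) = U.δ (genericPoint U.X) + e := by
    unfold n at he
    omega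
  constructor
  · have := GraphLem.intersectProperly V.setup U.setup g p (deltaCompat g hg) he' c
    rw [he] at this
    exact this
  · funext y
    by_cases hy : y ∈ Set.range g
    · obtain ⟨x, rfl⟩ := hy
      rw [push_apply g hg]
      have := GraphLem.interProd_apply_of_mem W.f W.hδ V.setup U.setup g p (deltaCompat g hg)
        (deltaCompat p hp) he' (c := c) (by rw [he]; exact hpull.1) hc.1 x
      rw [he] at this
      exact this
    · rw [push, pushFun_apply_notMem_range _ _ _ _ hy]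
      exact GraphLem.interProd_apply_of_notMem g W.n _ hy

end Closed

end K304.NPV
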