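import Groth.Agent.CycA.MovRatZ
import Groth.Agent.CycB.Push
import Groth.Agent.CycB.DivNat
import Groth.Agent.S1855

/-!
# The pushforward on coefficient functions of finite support
-/

set_option autoImplicit false
universe u
open CategoryTheory CategoryTheory.Limits AlgebraicGeometry

namespace K304.PushFun

open Groth.Agent Groth.Agent.CycA.MovRatZ

variable {X Y Z : Scheme.{u}}

/-- The pushforward of a coefficient function. -/
noncomputable def pushFun (f : X ⟶ Y) (δX : X → ℤ) (δY : Y → ℤ) (α : X → ℤ) : Y → ℤ :=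
  fun y => ∑ᶠ x ∈ {x : X | f x = y}, α x * (AlgebraicCycle.mapCoeff f δX δY x : ℤ)

theorem coe_map (f : X ⟶ Y) [QuasiCompact f] (δX : X → ℤ) (δY : Y → ℤ) (α : AlgebraicCycle X ℤ) :
    ⇑(AlgebraicCycle.map f δX δY α) = pushFun f δX δY ⇑α := rfl

theorem pushFun_ne_zero {f : X ⟶ Y} {δX : X → ℤ} {δY : Y → ℤ} {α : X → ℤ} {y : Y}
    (h : pushFun f δX δY α y ≠ 0) : ∃ x, f x = y ∧ α x ≠ 0 ∧ δX x = δY y := by
  obtain ⟨x, hx, h1⟩ := exists_ne_zero_of_finsum_mem_ne_zero h
  obtain rfl : f x = y := hx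
  refine ⟨x, rfl, left_ne_zero_of_mul h1, ?_⟩
  by_contra h2
  apply right_ne_zero_of_mul h1
  rw [AlgebraicCycle.mapCoeff, if_neg h2, Nat.cast_zero]

theorem finite_support_pushFun {f : X ⟶ Y} {δX : X → ℤ} {δY : Y → ℤ} {α : X → ℤ}
    (h : (Function.support α).Finite) : (Function.support (pushFun f δX δY α)).Finite := by
  refine (h.image f).subset ?_
  intro y hy
  obtain ⟨x, rfl, h1, -⟩ := pushFun_ne_zero hy
  exact ⟨x, h1, rfl⟩

theorem pushFun_add (f : X ⟶ Y) (δX : X → ℤ) (δY : Y → ℤ) {α β : X → ℤ}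
    (hα : (Function.support α).Finite) (hβ : (Function.support β).Finite) :
    pushFun f δX δY (α + β) = pushFun f δX δY α + pushFun f δX δY β := by
  funext y
  rw [Pi.add_apply, pushFun, pushFun, pushFun, ← finsum_mem_add_distrib']
  · refine finsum_mem_congr rfl fun x _ => ?_
    rw [Pi.add_apply, add_mul]
  · exact hα.subset fun x hx => left_ne_zero_of_mul hx.2
  · exact hβ.subset fun x hx => left_ne_zero_of_mul hx.2

theorem pushFun_zsmul (f : X ⟶ Y) (δX : X → ℤ) (δY : Y → ℤ) (c : ℤ) (α : X → ℤ) :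
    pushFun f δX δY (c • α) = c • pushFun f δX δY α := by
  funext y
  rw [Pi.smul_apply, pushFun, pushFun, smul_finsum]
  refine finsum_congr fun x => ?_
  rw [smul_finsum]
  refine finsum_congr fun _ => ?_
  rw [Pi.smul_apply, smul_eq_mul, smul_eq_mul, mul_assoc]

theorem pushFun_neg (f : X ⟶ Y) (δX : X → ℤ) (δY : Y → ℤ) (α : X → ℤ) :
    pushFun f δX δY (-α) = -pushFun f δX δY α := by
  have := pushFun_zsmul f δX δY (-1) α
  simpa using this

theorem pushFun_sub (f : X ⟶ Y) (δX : X → ℤ) (δY : Y → ℤ) {α β : X → ℤ}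
    (hα : (Function.support α).Finite) (hβ : (Function.support β).Finite) :
    pushFun f δX δY (α - β) = pushFun f δX δY α - pushFun f δX δY β := by
  rw [sub_eq_add_neg, pushFun_add f δX δY hα (by rwa [Function.support_neg]), pushFun_neg,
    ← sub_eq_add_neg]

theorem pushFun_id (δX : X → ℤ) (α : X → ℤ) : pushFun (𝟙 X) δX δX α = α := by
  funext x
  rw [pushFun]
  have : {x' : X | (𝟙 X : X ⟶ X) x' = x} = {x} := by
    ext x'; simp
  rw [this, finsum_mem_singleton, AlgebraicCycle.mapCoeff, if_pos (by simp),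
    CycB.DivNat.residueDegree_eq_one (𝟙 X) x, Nat.cast_one, mul_one]

theorem pushFun_apply_of_isPreimmersion (i : X ⟶ Y) [IsPreimmersion i] {δX : X → ℤ} {δY : Y → ℤ}
    (α : X → ℤ) (x : X) (hx : δX x = δY (i x)) : pushFun i δX δY α (i x) = α x := by
  rw [pushFun]
  have : {x' : X | i x' = i x} = {x} := by
    ext x'
    exact i.isEmbedding.injective.eq_iff
  rw [this, finsum_mem_singleton, AlgebraicCycle.mapCoeff, if_pos hx,
    CycB.DivNat.residueDegree_eq_one i x, Nat.cast_one, mul_one]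

theorem pushFun_apply_notMem_range (f : X ⟶ Y) (δX : X → ℤ) (δY : Y → ℤ) (α : X → ℤ) {y : Y}
    (hy : y ∉ Set.range f) : pushFun f δX δY α y = 0 := by
  by_contra h
  obtain ⟨x, rfl, -⟩ := pushFun_ne_zero h
  exact hy ⟨x, rfl⟩

/-- A function supported on a closed subscheme is a pushforward. -/
theorem eq_pushFun_comp (i : X ⟶ Y) [IsPreimmersion i] {δX : X → ℤ} {δY : Y → ℤ}
    (hδ : ∀ x, δX x = δY (i x)) {φ : Y → ℤ} (hφ : ∀ y, φ y ≠ 0 → y ∈ Set.range i) :
    φ = pushFun i δX δY (fun x => φ (i x)) := by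
  funext y
  by_cases hy : y ∈ Set.range i
  · obtain ⟨x, rfl⟩ := hy
    rw [pushFun_apply_of_isPreimmersion i _ x (hδ x)]
  · rw [pushFun_apply_notMem_range _ _ _ _ hy]
    by_contra h
    exact hy (hφ y h)

theorem pushFun_pushFun (f : X ⟶ Y) (g : Y ⟶ Z) [QuasiCompact f] [QuasiCompact g] {δX : X → ℤ}
    {δY : Y → ℤ} {δZ : Z → ℤ} (hf : Cyc.DeltaCompat f δX δY) (hg : Cyc.DeltaCompat g δY δZ)
    {α : X → ℤ} (hα : (Function.support α).Finite) :
    pushFun g δY δZ (pushFun f δX δY α) = pushFun (f ≫ g) δX δZ α := by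
  obtain ⟨a, rfl⟩ := exists_cycle_of_finite_support hα
  have := CycB.Push.map_map δX δY δZ f g hf hg a
  exact congrArg (fun c : AlgebraicCycle Z ℤ => ⇑c) this

theorem ratZ_le_support {δ : X → ℤ} {k : ℤ} [IsLocallyNoetherian X] [CompactSpace X]
    (hδ : Cyc.IsDimFun X δ) {φ : X → ℤ} (h : φ ∈ RatZ δ k) : (Function.support φ).Finite := by
  obtain ⟨a, rfl, -⟩ := exists_cycle_of_mem_ratZ hδ h
  exact finite_support a

theorem eq_of_ne_zero_of_mem_ratZ {δ : X → ℤ} {k : ℤ} {φ : X → ℤ}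
    (h : φ ∈ RatZ δ k) : ∀ x, φ x ≠ 0 → δ x = k := by
  induction h using AddSubgroup.closure_induction with
  | mem φ hφ =>
    obtain ⟨ξ, g, hξ, hg, rfl⟩ := hφ
    intro x hx
    by_contra hne
    apply hx
    rw [Cyc.divFun, dif_neg]
    rintro ⟨-, h⟩
    omega
  | zero => exact fun x hx => absurd rfl hx
  | add φ ψ _ _ h1 h2 =>
    intro x hx
    by_contra hne
    apply hx
    rw [Pi.add_apply, by_contra fun h => hne (h1 x h), by_contra fun h => hne (h2 x h), add_zero]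
  | neg φ _ h1 =>
    intro x hx
    exact h1 x (by simpa using hx)

/-- Proper pushforward preserves rational equivalence. -/
theorem pushFun_mem_ratZ {δX : X → ℤ} {δY : Y → ℤ} (hX : Cyc.IsSetup X δX)
    (hY : Cyc.IsSetup Y δY) [CompactSpace X] [CompactSpace Y] (f : X ⟶ Y) [IsProper f]
    (hf : Cyc.DeltaCompat f δX δY) {k : ℤ} {φ : X → ℤ} (h : φ ∈ RatZ δX k) :
    pushFun f δX δY φ ∈ RatZ δY k := by
  have := hX.1
  have := hY.1
  obtain ⟨a, rfl, ha⟩ := exists_cycle_of_mem_ratZ hX.2.2 h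
  have h0 : pushFun f δX δY (⇑(0 : AlgebraicCycle X ℤ)) = 0 := by
    funext y
    by_contra h
    obtain ⟨x, -, h1, -⟩ := pushFun_ne_zero h
    exact h1 rfl
  have h1 := S1855.result X Y δX δY hX hY f hf k a 0
    (fun x hx => by_contra fun h1 => hx (eq_of_ne_zero_of_mem_ratZ h x h1)) (fun _ _ => rfl)
    (by unfold Cyc.RatEquiv; rwa [sub_zero])
  have h2 := mem_ratZ_of_ratEquivZero h1
  change pushFun f δX δY ⇑a - pushFun f δX δY (⇑(0 : AlgebraicCycle X ℤ)) ∈ _ at h2
  rwa [h0, sub_zero] at h2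

end K304.PushFun
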