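import Groth.Agent.CycA.KoszulBridge
import Groth.Agent.S3406
import Mathlib.RingTheory.Filtration
import Mathlib.RingTheory.KrullDimension.Module
import Mathlib.RingTheory.Ideal.AssociatedPrime.Finiteness
import Mathlib.Analysis.SpecificLimits.Basic
import Mathlib.RingTheory.Length

/-!
# The Samuel limit `e_I(M, d)`: additivity, vanishing in small dimension, sum over primes
-/

set_option autoImplicit false
universe u

namespace K304.Samuel

open Filter Topology Module Groth.Agent

section

variable {A : Type u} [CommRing A]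

/-- The Samuel function `d! * length (M / I^t M) / t^d`. -/
noncomputable def sam (I : Ideal A) (d : ℕ) (M : Type u) [AddCommGroup M] [Module A M] (t : ℕ) : ℝ :=
  (d.factorial : ℝ) * ((Module.length A (M ⧸ (I ^ t • (⊤ : Submodule A M)))).toNat : ℝ) / (t : ℝ) ^ d

variable {I : Ideal A}

theorem sam_equiv {M N : Type u} [AddCommGroup M] [Module A M] [AddCommGroup N] [Module A N]
    (e : M ≃ₗ[A] N) (d t : ℕ) : sam I d M t = sam I d N t := by
  have h : Module.length A (M ⧸ (I ^ t • (⊤ : Submodule A M))) =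
      Module.length A (N ⧸ (I ^ t • (⊤ : Submodule A N))) := by
    refine (Submodule.Quotient.equiv _ _ e ?_).length_eq
    change (I ^ t • (⊤ : Submodule A M)).map (e : M →ₗ[A] N) = _
    rw [Submodule.map_smul'', Submodule.map_top, LinearMap.range_eq_top.2 e.surjective]
  rw [sam, sam, h]

theorem sam_nonneg {M : Type u} [AddCommGroup M] [Module A M] (d t : ℕ) : 0 ≤ sam I d M t := by
  rw [sam]
  positivity

variable [IsNoetherianRing A] [IsLocalRing A]

/-- An ideal of definition. -/
def IsDef (I : Ideal A) : Prop :=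
  I ≤ IsLocalRing.maximalIdeal A ∧ ∃ n : ℕ, IsLocalRing.maximalIdeal A ^ n ≤ I

theorem isArtinian_quot {M : Type u} [AddCommGroup M] [Module A M] [Module.Finite A M]
    (hI : IsDef I) (t : ℕ) : IsArtinian A (M ⧸ (I ^ t • (⊤ : Submodule A M))) := by
  obtain ⟨-, n, hn⟩ := hI
  have h1 : IsArtinian A (M ⧸ (IsLocalRing.maximalIdeal A • (⊤ : Submodule A M))) := by
    have h2 : IsFiniteLength A (M ⧸ (IsLocalRing.maximalIdeal A • (⊤ : Submodule A M))) := by
      have : IsArtinianRing (A ⧸ IsLocalRing.maximalIdeal A) := by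
        have : IsField (A ⧸ IsLocalRing.maximalIdeal A) :=
          (Ideal.Quotient.maximal_ideal_iff_isField_quotient _).1 inferInstance
        let _ := this.toField
        infer_instance
      refine S3406.isFiniteLength_of_isArtinianRing_quotient (IsLocalRing.maximalIdeal A) ?_
      intro a ha m
      obtain ⟨m, rfl⟩ := Submodule.Quotient.mk_surjective _ m
      rw [← Submodule.Quotient.mk_smul, Submodule.Quotient.mk_eq_zero]
      exact Submodule.smul_mem_smul ha trivial
    exact (isFiniteLength_iff_isNoetherian_isArtinian.1 h2).2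
  have h3 := CycA.KoszulSamuel.isArtinian_quot_pow M (IsLocalRing.maximalIdeal A)
    (IsNoetherian.noetherian _) h1 (n * t)
  have hle : (IsLocalRing.maximalIdeal A ^ (n * t) • (⊤ : Submodule A M)) ≤
      I ^ t • (⊤ : Submodule A M) := by
    rw [pow_mul]
    exact Submodule.smul_mono_left (Ideal.pow_right_mono hn t)
  exact isArtinian_of_surjective _ (Submodule.factor hle) (Submodule.factor_surjective hle)

theorem length_ne_top {M : Type u} [AddCommGroup M] [Module A M] [Module.Finite A M]
    (hI : IsDef I) (t : ℕ) : Module.length A (M ⧸ (I ^ t • (⊤ : Submodule A M))) ≠ ⊤ := by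
  have := isArtinian_quot (M := M) hI t
  exact Module.length_ne_top

/-- The length of `M / I^t M` is bounded below and above through Artin-Rees. -/
theorem length_bounds {M' M M'' : Type u} [AddCommGroup M'] [Module A M'] [AddCommGroup M]
    [Module A M] [AddCommGroup M''] [Module A M''] [Module.Finite A M'] [Module.Finite A M]
    [Module.Finite A M''] (hI : IsDef I)
    (f : M' →ₗ[A] M) (g : M →ₗ[A] M'') (hf : Function.Injective f) (hg : Function.Surjective g)
    (hfg : LinearMap.range f = LinearMap.ker g) :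
    ∃ k : ℕ, ∀ t, 
      (Module.length A (M ⧸ (I ^ t • (⊤ : Submodule A M)))).toNat ≤
        (Module.length A (M' ⧸ (I ^ t • (⊤ : Submodule A M')))).toNat +
          (Module.length A (M'' ⧸ (I ^ t • (⊤ : Submodule A M'')))).toNat ∧
      (k ≤ t → (Module.length A (M' ⧸ (I ^ (t - k) • (⊤ : Submodule A M')))).toNat +
          (Module.length A (M'' ⧸ (I ^ t • (⊤ : Submodule A M'')))).toNat ≤
            (Module.length A (M ⧸ (I ^ t • (⊤ : Submodule A M)))).toNat) := by
  obtain ⟨k, hk⟩ := Ideal.exists_pow_inf_eq_pow_smul I (LinearMap.range f)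
  refine ⟨k, fun t => ?_⟩
  -- the exact sequence `0 → M' / f⁻¹(I^t M) → M / I^t M → M'' / I^t M'' → 0`
  let P : Submodule A M' := (I ^ t • (⊤ : Submodule A M)).comap f
  let φ : (M' ⧸ P) →ₗ[A] (M ⧸ (I ^ t • (⊤ : Submodule A M))) := P.mapQ _ f le_rfl
  have hgt : (I ^ t • (⊤ : Submodule A M)) ≤ (I ^ t • (⊤ : Submodule A M'')).comap g := by
    rw [← Submodule.map_le_iff_le_comap, Submodule.map_smul'']
    exact Submodule.smul_mono le_rfl le_top
  let ψ : (M ⧸ (I ^ t • (⊤ : Submodule A M))) →ₗ[A] (M'' ⧸ (I ^ t • (⊤ : Submodule A M''))) :=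
    Submodule.mapQ _ _ g hgt
  have hφ : Function.Injective φ := by
    rw [← LinearMap.ker_eq_bot, Submodule.ker_mapQ]
    simp [P]
  have hψ : Function.Surjective ψ := by
    intro y
    obtain ⟨y, rfl⟩ := Submodule.Quotient.mk_surjective _ y
    obtain ⟨x, rfl⟩ := hg y
    exact ⟨Submodule.Quotient.mk x, rfl⟩
  have hex : Function.Exact φ ψ := by
    rw [LinearMap.exact_iff]
    apply le_antisymm
    · intro x hx
      obtain ⟨x, rfl⟩ := Submodule.Quotient.mk_surjective _ x
      rw [LinearMap.mem_ker] at hx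
      change (Submodule.Quotient.mk (g x) : M'' ⧸ (I ^ t • (⊤ : Submodule A M''))) = 0 at hx
      rw [Submodule.Quotient.mk_eq_zero] at hx
      have h1 : g x ∈ (I ^ t • (⊤ : Submodule A M)).map g := by
        rwa [Submodule.map_smul'', Submodule.map_top, LinearMap.range_eq_top.2 hg]
      obtain ⟨y, hy, hyx⟩ := h1
      have h2 : x - y ∈ LinearMap.range f := by
        rw [hfg, LinearMap.mem_ker, map_sub, hyx, sub_self]
      obtain ⟨z, hz⟩ := h2
      refine ⟨Submodule.Quotient.mk z, ?_⟩
      change (Submodule.Quotient.mk (f z) : M ⧸ (I ^ t • (⊤ : Submodule A M))) = _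
      rw [Submodule.Quotient.eq, hz]
      have : x - y - x = -y := by abel
      rw [this]
      exact neg_mem hy
    · rintro _ ⟨x, rfl⟩
      obtain ⟨x, rfl⟩ := Submodule.Quotient.mk_surjective _ x
      rw [LinearMap.mem_ker]
      change (Submodule.Quotient.mk (g (f x)) : M'' ⧸ (I ^ t • (⊤ : Submodule A M''))) = 0
      have : g (f x) = 0 := by
        rw [← LinearMap.mem_ker, ← hfg]
        exact ⟨x, rfl⟩
      rw [this, Submodule.Quotient.mk_zero]
  have hlen := Module.length_eq_add_of_exact φ ψ hφ hψ hex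
  have hM := length_ne_top (M := M) hI t
  have hM'' := length_ne_top (M := M'') hI t
  have hP : Module.length A (M' ⧸ P) ≠ ⊤ := by
    intro h
    rw [h, top_add] at hlen
    exact hM hlen
  have hlen' : (Module.length A (M ⧸ (I ^ t • (⊤ : Submodule A M)))).toNat =
      (Module.length A (M' ⧸ P)).toNat +
        (Module.length A (M'' ⧸ (I ^ t • (⊤ : Submodule A M'')))).toNat := by
    rw [hlen, ENat.toNat_add hP hM'']
  have h1 : I ^ t • (⊤ : Submodule A M') ≤ P := by
    rw [← Submodule.map_le_iff_le_comap, Submodule.map_smul'']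
    exact Submodule.smul_mono le_rfl le_top
  refine ⟨?_, fun hkt => ?_⟩
  · rw [hlen']
    have h2 : Module.length A (M' ⧸ P) ≤ Module.length A (M' ⧸ (I ^ t • (⊤ : Submodule A M'))) :=
      Module.length_le_of_surjective (Submodule.factor h1) (Submodule.factor_surjective h1)
    have h3 := ENat.toNat_le_toNat h2 (length_ne_top hI t)
    omega
  · rw [hlen']
    have h2 : P ≤ I ^ (t - k) • (⊤ : Submodule A M') := by
      intro x hx
      have h3 : f x ∈ I ^ t • (⊤ : Submodule A M) ⊓ LinearMap.range f := ⟨hx, ⟨x, rfl⟩⟩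
      rw [hk t hkt] at h3
      have h4 : f x ∈ (I ^ (t - k) • (⊤ : Submodule A M')).map f := by
        rw [Submodule.map_smul'', Submodule.map_top]
        exact (Submodule.smul_mono le_rfl inf_le_right) h3
      obtain ⟨y, hy, hyx⟩ := h4
      rwa [hf hyx] at hy
    have h3 : Module.length A (M' ⧸ (I ^ (t - k) • (⊤ : Submodule A M'))) ≤
        Module.length A (M' ⧸ P) :=
      Module.length_le_of_surjective (Submodule.factor h2) (Submodule.factor_surjective h2)
    have h4 := ENat.toNat_le_toNat h3 hP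
    omega

theorem tendsto_sub_div (k d : ℕ) :
    Tendsto (fun t : ℕ => ((t - k : ℕ) : ℝ) ^ d / (t : ℝ) ^ d) atTop (𝓝 1) := by
  have h1 : Tendsto (fun t : ℕ => (1 - (k : ℝ) * (t : ℝ)⁻¹) ^ d) atTop (𝓝 ((1 - (k : ℝ) * 0) ^ d)) :=
    ((tendsto_const_nhds.sub (tendsto_const_nhds.mul tendsto_inv_atTop_nhds_zero_nat)).pow d)
  rw [mul_zero, sub_zero, one_pow] at h1
  refine h1.congr' ?_
  filter_upwards [eventually_ge_atTop (k + 1)] with t ht
  have ht0 : (t : ℝ) ≠ 0 := by
    have : 0 < t := by omega
    positivity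
  rw [← div_pow, Nat.cast_sub (by omega)]
  congr 1
  field_simp

/-- **Additivity of the Samuel limit.** -/
theorem sam_add {M' M M'' : Type u} [AddCommGroup M'] [Module A M'] [AddCommGroup M]
    [Module A M] [AddCommGroup M''] [Module A M''] [Module.Finite A M'] [Module.Finite A M]
    [Module.Finite A M''] (hI : IsDef I)
    (f : M' →ₗ[A] M) (g : M →ₗ[A] M'') (hf : Function.Injective f) (hg : Function.Surjective g)
    (hfg : LinearMap.range f = LinearMap.ker g) (d : ℕ) (e' e'' : ℝ)
    (h' : Tendsto (sam I d M') atTop (𝓝 e')) (h'' : Tendsto (sam I d M'') atTop (𝓝 e'')) :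
    Tendsto (sam I d M) atTop (𝓝 (e' + e'')) := by
  obtain ⟨k, hk⟩ := length_bounds hI f g hf hg hfg
  have h1 : Tendsto (fun t => sam I d M' t + sam I d M'' t) atTop (𝓝 (e' + e'')) := h'.add h''
  have h2 : Tendsto (fun t : ℕ => sam I d M' (t - k) * (((t - k : ℕ) : ℝ) ^ d / (t : ℝ) ^ d) +
      sam I d M'' t) atTop (𝓝 (e' * 1 + e'')) :=
    ((h'.comp (tendsto_sub_atTop_nat k)).mul (tendsto_sub_div k d)).add h''
  rw [mul_one] at h2
  refine tendsto_of_tendsto_of_tendsto_of_le_of_le' h2 h1 ?_ ?_
  · filter_upwards [eventually_ge_atTop (k + 1)] with t ht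
    have h3 := (hk t).2 (by omega)
    have h4 : (0 : ℝ) < ((t - k : ℕ) : ℝ) ^ d := by
      have : 0 < t - k := by omega
      positivity
    have h5 : (0 : ℝ) < (t : ℝ) ^ d := by
      have : 0 < t := by omega
      positivity
    rw [sam, sam, sam, div_mul_div_cancel₀ h4.ne', ← add_div, div_le_div_iff_of_pos_right h5,
      ← mul_add]
    have h6 : (0 : ℝ) ≤ (d.factorial : ℝ) := by positivity
    refine mul_le_mul_of_nonneg_left ?_ h6
    exact_mod_cast h3
  · filter_upwards [eventually_ge_atTop 1] with t ht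
    have h3 := (hk t).1
    have h5 : (0 : ℝ) < (t : ℝ) ^ d := by
      have : 0 < t := by omega
      positivity
    rw [sam, sam, sam, ← add_div, div_le_div_iff_of_pos_right h5, ← mul_add]
    have h6 : (0 : ℝ) ≤ (d.factorial : ℝ) := by positivity
    refine mul_le_mul_of_nonneg_left ?_ h6
    exact_mod_cast h3

/-- **Vanishing of the Samuel limit in degree larger than the dimension.** -/
theorem sam_zero {M : Type u} [AddCommGroup M] [Module A M] [Module.Finite A M] (hI : IsDef I)
    (n d : ℕ) (hn : Module.supportDim A M ≤ n) (hd : n < d) :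
    Tendsto (sam I d M) atTop (𝓝 0) := by
  obtain ⟨rs, hl, hrs, hfl⟩ := S3406.exists_list n M hn
  obtain ⟨hI1, N, hN⟩ := hI
  have hrs' : ∀ r ∈ rs, r ∈ IsLocalRing.maximalIdeal A := by
    intro r hr
    have := hrs r hr
    rwa [IsLocalRing.ringJacobson_eq_maximalIdeal] at this
  -- powers of the elements
  let l : List A := rs.map (fun r => r ^ N)
  have hll : l.length = n := by simp [l, hl]
  have hlI : Ideal.span {x | x ∈ l} ≤ I := by
    rw [Ideal.span_le]
    intro x hx
    obtain ⟨r, hr, rfl⟩ := List.mem_map.1 (show x ∈ l from hx)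
    exact hN (Ideal.pow_mem_pow (hrs' r hr) N)
  have hpow : ∃ m, (Ideal.ofList rs) ^ m ≤ Ideal.span {x | x ∈ l} := by
    apply Ideal.exists_pow_le_of_le_radical_of_fg
    · rw [Ideal.ofList, Ideal.span_le]
      intro r hr
      refine ⟨N, Ideal.subset_span ?_⟩
      exact List.mem_map.2 ⟨r, hr, rfl⟩
    · exact IsNoetherian.noetherian _
  obtain ⟨m, hm⟩ := hpow
  have hart : IsArtinian A (M ⧸ (Ideal.span {x | x ∈ l} • ⊤ : Submodule A M)) := by
    have h1 : IsArtinian A (M ⧸ (Ideal.ofList rs • ⊤ : Submodule A M)) :=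
      (isFiniteLength_iff_isNoetherian_isArtinian.1 hfl).2
    have h2 := CycA.KoszulSamuel.isArtinian_quot_pow M (Ideal.ofList rs)
      (IsNoetherian.noetherian _) h1 m
    have hle : (Ideal.ofList rs ^ m • (⊤ : Submodule A M)) ≤
        Ideal.span {x | x ∈ l} • (⊤ : Submodule A M) := Submodule.smul_mono_left hm
    exact isArtinian_of_surjective _ (Submodule.factor hle) (Submodule.factor_surjective hle)
  have h1 := CycA.KoszulBridge.tendsto_samuel_koszul M l hart
  rw [hll] at h1
  -- the comparison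
  have h2 : Tendsto (fun t : ℕ => (d.factorial : ℝ) / (n.factorial : ℝ) * (((t : ℝ)⁻¹) ^ (d - n)))
      atTop (𝓝 ((d.factorial : ℝ) / (n.factorial : ℝ) * (0 ^ (d - n)))) :=
    tendsto_const_nhds.mul (tendsto_inv_atTop_nhds_zero_nat.pow _)
  have h3 := h1.mul h2
  rw [zero_pow (by omega), mul_zero, mul_zero] at h3
  refine tendsto_of_tendsto_of_tendsto_of_le_of_le' tendsto_const_nhds h3
    (Filter.Eventually.of_forall fun t => sam_nonneg d t) ?_
  filter_upwards [eventually_ge_atTop 1] with t ht
  have hle : (Ideal.span {x | x ∈ l} ^ t • (⊤ : Submodule A M)) ≤ I ^ t • (⊤ : Submodule A M) :=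
    Submodule.smul_mono_left (Ideal.pow_right_mono hlI t)
  have h4 : Module.length A (M ⧸ (I ^ t • (⊤ : Submodule A M))) ≤
      Module.length A (M ⧸ (Ideal.span {x | x ∈ l} ^ t • (⊤ : Submodule A M))) :=
    Module.length_le_of_surjective (Submodule.factor hle) (Submodule.factor_surjective hle)
  have h5 : Module.length A (M ⧸ (Ideal.span {x | x ∈ l} ^ t • (⊤ : Submodule A M))) ≠ ⊤ := by
    have := CycA.KoszulSamuel.isArtinian_quot_pow M (Ideal.span {x | x ∈ l})
      (IsNoetherian.noetherian _) hart t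
    exact Module.length_ne_top
  have h6 := ENat.toNat_le_toNat h4 h5
  have ht0 : (0 : ℝ) < t := by exact_mod_cast ht
  have hfac : (0 : ℝ) < (n.factorial : ℝ) := by exact_mod_cast n.factorial_pos
  have h7 : (t : ℝ) ^ d = (t : ℝ) ^ n * (t : ℝ) ^ (d - n) := by
    rw [← pow_add]; congr 1; omega
  have h8 : (n.factorial : ℝ) * ((Module.length A (M ⧸ (Ideal.span {x | x ∈ l} ^ t •
      (⊤ : Submodule A M)))).toNat : ℝ) / (t : ℝ) ^ n *
      ((d.factorial : ℝ) / (n.factorial : ℝ) * (((t : ℝ)⁻¹) ^ (d - n))) =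
      (d.factorial : ℝ) * ((Module.length A (M ⧸ (Ideal.span {x | x ∈ l} ^ t •
      (⊤ : Submodule A M)))).toNat : ℝ) / (t : ℝ) ^ d := by
    rw [h7, inv_pow]
    field_simp
  rw [h8, sam]
  have h9 : (0 : ℝ) < (t : ℝ) ^ d := by positivity
  rw [div_le_div_iff_of_pos_right h9]
  have h6' : (0 : ℝ) ≤ (d.factorial : ℝ) := by positivity
  refine mul_le_mul_of_nonneg_left ?_ h6'
  exact_mod_cast h6

end

end K304.Samuel
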