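import Groth.Agent.IntMult.K304.Samuel
import Groth.Agent.CycA.Devissage
import Mathlib.RingTheory.Support
import Mathlib.RingTheory.KrullDimension.NonZeroDivisors

/-!
# The Samuel limit as a sum over the primes of maximal dimension
-/

set_option autoImplicit false
universe u

namespace K304.Samuel2

open Filter Topology Module Groth.Agent K304.Samuel CycA.Devissage

section

variable {A : Type u} [CommRing A]

theorem ringKrullDim_quotient_le_supportDim {M : Type u} [AddCommGroup M] [Module A M]
    [Module.Finite A M] {q : PrimeSpectrum A} (hq : q ∈ Module.support A M) :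
    ringKrullDim (A ⧸ q.asIdeal) ≤ Module.supportDim A M := by
  rw [Module.supportDim_eq_ringKrullDim_quotient_annihilator]
  rw [Module.support_eq_zeroLocus] at hq
  exact ringKrullDim_le_of_surjective (Ideal.Quotient.factor hq) (Ideal.Quotient.factor_surjective hq)

/-- Primes `p` in the support of `M` with `dim A/p = d ≥ dim M` are minimal in the support. -/
theorem eq_of_le {M : Type u} [AddCommGroup M] [Module A M]
    [Module.Finite A M] {d : ℕ} (hd : Module.supportDim A M ≤ d) {p : PrimeSpectrum A}
    (hp : ringKrullDim (A ⧸ p.asIdeal) = d) {q : PrimeSpectrum A} (hq : q ∈ Module.support A M)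
    (hqp : q ≤ p) : q = p := by
  by_contra hne
  have h1 := (ringKrullDim_quotient_le_supportDim hq).trans hd
  have hlt : q.asIdeal < p.asIdeal := lt_of_le_of_ne hqp (fun h => hne (PrimeSpectrum.ext h))
  obtain ⟨x, hxp, hxq⟩ := Set.exists_of_ssubset hlt
  have h2 := ringKrullDim_quotient_succ_le_of_nonZeroDivisor (R := A ⧸ q.asIdeal)
    (r := Ideal.Quotient.mk q.asIdeal x)
    (mem_nonZeroDivisors_of_ne_zero (fun h => hxq (Ideal.Quotient.eq_zero_iff_mem.1 h)))
  have hle : Ideal.span {Ideal.Quotient.mk q.asIdeal x} ≤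
      RingHom.ker (Ideal.Quotient.factor hqp) := by
    rw [Ideal.span_singleton_le_iff_mem, RingHom.mem_ker, Ideal.Quotient.factor_mk,
      Ideal.Quotient.eq_zero_iff_mem]
    exact hxp
  have h3 : ringKrullDim (A ⧸ p.asIdeal) ≤
      ringKrullDim ((A ⧸ q.asIdeal) ⧸ Ideal.span {Ideal.Quotient.mk q.asIdeal x}) :=
    ringKrullDim_le_of_surjective (Ideal.Quotient.lift _ (Ideal.Quotient.factor hqp) hle)
      (Ideal.Quotient.lift_surjective_of_surjective _ _ (Ideal.Quotient.factor_surjective hqp))
  rw [hp] at h3
  have h4 : ((d + 1 : ℕ) : WithBot ℕ∞) ≤ (d : ℕ) := by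
    refine le_trans ?_ (h2.trans h1)
    push_cast
    exact add_le_add_left h3 1
  have h5 : d + 1 ≤ d := by exact_mod_cast h4
  omega

theorem finite_top [IsNoetherianRing A] {M : Type u} [AddCommGroup M] [Module A M]
    [Module.Finite A M] {d : ℕ} (hd : Module.supportDim A M ≤ d) :
    {p : PrimeSpectrum A | p ∈ Module.support A M ∧ ringKrullDim (A ⧸ p.asIdeal) = d}.Finite := by
  have h1 := (Module.annihilator A M).finite_minimalPrimes_of_isNoetherianRing
  refine Set.Finite.of_finite_image (f := PrimeSpectrum.asIdeal) (h1.subset ?_)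
    (fun a _ b _ h => PrimeSpectrum.ext h)
  rintro _ ⟨p, ⟨hp1, hp2⟩, rfl⟩
  have hp1' := hp1
  rw [Module.support_eq_zeroLocus] at hp1'
  refine ⟨⟨p.2, hp1'⟩, ?_⟩
  rintro q ⟨hq1, hq2⟩ hqp
  have h2 : (⟨q, hq1⟩ : PrimeSpectrum A) = p := by
    refine eq_of_le hd hp2 ?_ hqp
    rw [Module.support_eq_zeroLocus]
    exact hq2
  rw [← h2]

variable [IsNoetherianRing A] [IsLocalRing A] {I : Ideal A}

theorem sam_sum (hI : IsDef I) (d : ℕ) (e : PrimeSpectrum A → ℝ)
    (he : ∀ p : PrimeSpectrum A, ringKrullDim (A ⧸ p.asIdeal) = d →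
      Tendsto (sam I d (A ⧸ p.asIdeal)) atTop (𝓝 (e p)))
    (S : Finset (PrimeSpectrum A)) (hS : ∀ p ∈ S, ringKrullDim (A ⧸ p.asIdeal) = d)
    (M : Type u) [AddCommGroup M] [Module A M] [hM : Module.Finite A M]
    (hd : Module.supportDim A M ≤ d)
    (hMS : ∀ p ∈ Module.support A M, ringKrullDim (A ⧸ p.asIdeal) = d → p ∈ S) :
    Tendsto (sam I d M) atTop (𝓝 (∑ p ∈ S, (ll p M : ℝ) * e p)) := by
  revert hd hMS
  induction hM using IsNoetherianRing.induction_on_isQuotientEquivQuotientPrime A with
  | subsingleton N =>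
    intro _ _
    have h1 : ∑ p ∈ S, (ll p N : ℝ) * e p = 0 := by
      refine Finset.sum_eq_zero fun p _ => ?_
      rw [ll_eq_zero, Int.cast_zero, zero_mul]
      rw [Module.support_eq_empty]
      exact Set.notMem_empty _
    have h2 : sam I d N = fun _ => 0 := by
      funext t
      rw [sam, Module.length_eq_zero]
      simp
    rw [h1, h2]
    exact tendsto_const_nhds
  | quotient N q f =>
    intro hd hMS
    have hq : q ∈ Module.support A N := by
      rw [f.support_eq, Module.support_eq_zeroLocus, Ideal.annihilator_quotient]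
      exact fun x hx => hx
    have hsam : sam I d N = sam I d (A ⧸ q.asIdeal) := by
      funext t
      exact sam_equiv f d t
    rw [hsam]
    have hzero : ∀ p ∈ S, p ≠ q → ll p N = 0 := by
      intro p hp hpq
      rw [ll_eq_zero]
      intro h1
      have h2 : q ≤ p := by
        rw [f.support_eq, Module.support_eq_zeroLocus, Ideal.annihilator_quotient] at h1
        exact h1
      exact hpq (eq_of_le hd (hS p hp) hq h2).symm
    by_cases hqd : ringKrullDim (A ⧸ q.asIdeal) = d
    · rw [Finset.sum_eq_single q]
      · rw [ll_congr q f, ll_self, Int.cast_one, one_mul]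
        exact he q hqd
      · intro p hp hpq
        rw [hzero p hp hpq, Int.cast_zero, zero_mul]
      · intro h; exact absurd (hMS q hq hqd) h
    · have h1 : ∑ p ∈ S, (ll p N : ℝ) * e p = 0 := by
        refine Finset.sum_eq_zero fun p hp => ?_
        rw [hzero p hp, Int.cast_zero, zero_mul]
        rintro rfl
        exact hqd (hS p hp)
      rw [h1]
      have h2 : ringKrullDim (A ⧸ q.asIdeal) ≤ d := (ringKrullDim_quotient_le_supportDim hq).trans hd
      have h3 : ringKrullDim (A ⧸ q.asIdeal) < d := lt_of_le_of_ne h2 hqd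
      have h4 : ringKrullDim (A ⧸ q.asIdeal) ≠ ⊥ := by
        have := Ideal.Quotient.nontrivial_iff.2 q.2.ne_top
        intro h
        have h0 := ringKrullDim_nonneg_of_nontrivial (R := A ⧸ q.asIdeal)
        rw [h] at h0
        simp at h0
      obtain ⟨n, hn⟩ : ∃ n : ℕ, ringKrullDim (A ⧸ q.asIdeal) = n := by
        revert h3 h4
        generalize ringKrullDim (A ⧸ q.asIdeal) = z
        intro h3 h4
        induction z with
        | bot => exact absurd rfl h4
        | coe z =>
          induction z with
          | top => exact absurd h3 (by simp)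
          | coe n => exact ⟨n, rfl⟩
      refine sam_zero hI n d ?_ ?_
      · rw [Module.supportDim_quotient_eq_ringKrullDim, hn]
      · rw [hn] at h3
        exact_mod_cast h3
  | exact N₁ N₂ N₃ f g hf hg hfg h₁ h₃ =>
    intro hd hMS
    have s1 := Module.support_subset_of_injective f hf
    have s3 := Module.support_subset_of_surjective g hg
    have h1 := h₁ ((Module.supportDim_le_of_injective f hf).trans hd) (fun p hp => hMS p (s1 hp))
    have h3 := h₃ ((Module.supportDim_le_of_surjective g hg).trans hd) (fun p hp => hMS p (s3 hp))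
    have h2 := sam_add hI f g hf hg (LinearMap.exact_iff.1 hfg).symm d _ _ h1 h3
    convert h2 using 2
    rw [← Finset.sum_add_distrib]
    refine Finset.sum_congr rfl fun p hp => ?_
    rw [ll_add p f g hf hg hfg (length_loc_ne_top fun q hq hqp => eq_of_le hd (hS p hp) hq hqp)]
    push_cast
    ring

end

end K304.Samuel2
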