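import Groth.Agent.IntMult.K304.P1Geo
import Groth.Agent.IntMult.K304.PushFun
import Groth.Agent.CycA.DivMult
import Groth.Agent.CycA.FibreComp
import Groth.Agent.CycA.SectGeom

/-!
# Intersection of a closed subvariety of `P^1_X` with the zero section
-/

set_option autoImplicit false
universe u
open CategoryTheory CategoryTheory.Limits AlgebraicGeometry

namespace K304.SectProd

open Groth.Agent Groth.Agent.CycB.RelDim Groth.Agent.CycB.LocQuot Groth.Agent.CycA.MovRatZ
  Groth.Agent.CycB.PFAssemble K304.PushFun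

theorem interProd_indicator {X : Scheme.{u}} (δ : X → ℤ) (n : ℤ) (a b ζ : X) :
    IntMult.interProd δ n (Set.indicator {a} 1) (Set.indicator {b} 1) ζ = mm δ n a b ζ := by
  rw [interProd_eq_sum δ n _ _ ζ {a} {b}
    (fun ξ h _ => by rw [indicator_ne_zero_iff] at h; simpa using h)
    (fun ξ h _ => by rw [indicator_ne_zero_iff] at h; simpa using h),
    Finset.sum_singleton, Finset.sum_singleton, Set.indicator_of_mem (Set.mem_singleton _),
    Set.indicator_of_mem (Set.mem_singleton _)]
  simp

variable {X : Scheme.{u}} [IsIntegral X] {δ : X → ℤ} {δP : ↥(CohB1.ProjSpaceOver 1 X) → ℤ}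

/-- Intersection with a section of `P^1_X → X` is the cycle of the scheme-theoretic fibre. -/
theorem interProd_sect (hP : Cyc.DeltaCompat (CohB1.ProjSpaceOver.toBase 1 X) δP δ)
    (i : Fin (1 + 1)) {W : Scheme.{u}} [IsIntegral W] (ι : W ⟶ CohB1.ProjSpaceOver 1 X)
    [IsClosedImmersion ι] {n r : ℤ} (hn : δ (genericPoint X) = n)
    (hr : δP (ι (genericPoint W)) = r + 1)
    (hW : ι (genericPoint W) ∉ Set.range (P1.sect X i)) :
    IntMult.interProd δP (n + 1) (Set.indicator {ι (genericPoint W)} 1)
      (Set.indicator {P1.sect X i (genericPoint X)} 1) =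
    pushFun (P1.sect X i) δ δP (Cyc.subschemeFun δ r (pullback.snd ι (P1.sect X i))) := by
  have hσ := CycA.MovGeo.delta_sect hP i
  have hci := CycA.P1Sect.isClosedImmersion_sect X i
  funext y
  rw [interProd_indicator]
  by_cases hy : y ∈ Set.range (P1.sect X i)
  · obtain ⟨x, rfl⟩ := hy
    rw [pushFun_apply_of_isPreimmersion (P1.sect X i) _ x (hσ x).symm]
    by_cases h1 : ι (genericPoint W) ⤳ P1.sect X i x
    · by_cases h2 : δ x = r
      · obtain ⟨t, ht, hker⟩ := CycA.P1Sect.exists_ker_stalkMap_sect (X := X) i x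
        rw [mm_eq ⟨h1, CycA.DivMult.specializes_apply _ x, by rw [hr, hσ, hσ, hn, h2]; ring⟩]
        exact CycA.DivMult.mult_eq_subschemeFun (P1.sect X i) ι δ r x h2 ht hker hW h1
      · rw [CycA.DivMult.subschemeFun_eq_zero_of_ne _ _ _ _ h2]
        by_contra h
        have := (mm_ne_zero h).2.2
        rw [hr, hσ, hσ, hn] at this
        omega
    · rw [CycA.DivMult.subschemeFun_eq_zero_of_not_specializes _ _ _ _ _ h1]
      by_contra h
      exact h1 (mm_ne_zero h).1
  · rw [pushFun_apply_notMem_range _ _ _ _ hy]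
    by_contra h
    exact hy ((mm_ne_zero h).2.1.mem_closed (P1.sect X i).isClosedEmbedding.isClosed_range
      ⟨_, rfl⟩)

end K304.SectProd
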